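import Mathlib

/-!
# Centralisers and class sizes modulo the centre
-/

set_option autoImplicit false
set_option linter.unusedSectionVars false
set_option linter.style.haveILetI false

namespace CfsgLib.PSL2Sizes

variable {G : Type*} [Group G] [Finite G]

/-- The centraliser of an element. -/
abbrev C (x : G) : Subgroup G := Subgroup.centralizer ({x} : Set G)

/-- The index of the centre in the centraliser of `x`. -/
noncomputable def cb (x : G) : ℕ := ((Subgroup.center G).subgroupOf (C x)).index

local notation "Q" => G ⧸ Subgroup.center G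
local notation "π" => QuotientGroup.mk' (Subgroup.center G)

theorem center_le (x : G) : Subgroup.center G ≤ C x := fun z hz =>
  Subgroup.mem_centralizer_singleton_iff.mpr (Subgroup.mem_center_iff.mp hz x).symm

theorem card_center_mul_cb (x : G) :
    Nat.card (Subgroup.center G) * cb x = Nat.card (C x) := by
  rw [← ((Subgroup.center G).subgroupOf (C x)).card_mul_index, cb,
    Nat.card_congr (Subgroup.subgroupOfEquivOfLe (center_le x)).toEquiv]

theorem cb_mul_index (x : G) : cb x * (C x).index = Nat.card Q := by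
  show cb x * (C x).index = (Subgroup.center G).index
  rw [← Subgroup.relIndex_mul_index (center_le x)]
  rfl

theorem cb_pos (x : G) : 0 < cb x := Nat.pos_of_ne_zero fun h => by
  have := cb_mul_index x
  rw [h, zero_mul] at this
  exact Nat.card_pos.ne' this.symm

theorem index_eq_one_iff {x : G} : (C x).index = 1 ↔ x ∈ Subgroup.center G := by
  rw [Subgroup.index_eq_one, Subgroup.eq_top_iff', Subgroup.mem_center_iff]
  exact forall_congr' fun g => Subgroup.mem_centralizer_singleton_iff

theorem index_conj (g x : G) : (C (g * x * g⁻¹)).index = (C x).index := by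
  have h : C (g * x * g⁻¹) = (C x).map (MulAut.conj g).toMonoidHom := by
    ext y
    rw [Subgroup.mem_map_equiv, Subgroup.mem_centralizer_singleton_iff,
      Subgroup.mem_centralizer_singleton_iff, MulAut.conj_symm_apply]
    constructor
    · intro hy
      calc g⁻¹ * y * g * x = g⁻¹ * (y * (g * x * g⁻¹)) * g := by group
        _ = g⁻¹ * (g * x * g⁻¹ * y) * g := by rw [hy]
        _ = x * (g⁻¹ * y * g) := by group
    · intro hy
      calc y * (g * x * g⁻¹) = g * (g⁻¹ * y * g * x) * g⁻¹ := by group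
        _ = g * (x * (g⁻¹ * y * g)) * g⁻¹ := by rw [hy]
        _ = g * x * g⁻¹ * y := by group
  rw [h, Subgroup.index_map_of_bijective (MulAut.conj g).bijective]

theorem C_le_of_pow (x : G) (k : ℕ) : C x ≤ C (x ^ k) := fun y hy =>
  Subgroup.mem_centralizer_singleton_iff.mpr
    ((show Commute y x from Subgroup.mem_centralizer_singleton_iff.mp hy).pow_right k)

/-- A power of a non-central element is a non-central element of prime power order. -/
theorem exists_primary {x : G} (hx : x ∉ Subgroup.center G) :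
    ∃ r : ℕ, r.Prime ∧ ∃ k : ℕ, x ^ k ∉ Subgroup.center G ∧ ∃ j, (x ^ k) ^ r ^ j = 1 := by
  have hd : orderOf (π x) ≠ 1 := fun h => hx ((QuotientGroup.eq_one_iff x).mp (orderOf_eq_one_iff.mp h))
  obtain ⟨r, hr, hrd⟩ := Nat.exists_prime_and_dvd hd
  refine ⟨r, hr, orderOf x / r ^ (orderOf x).factorization r, fun h => ?_,
    (orderOf x).factorization r, by
      rw [← pow_mul, Nat.div_mul_cancel (Nat.ordProj_dvd _ _), pow_orderOf_eq_one]⟩
  have h1 : (π x) ^ (orderOf x / r ^ (orderOf x).factorization r) = 1 := by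
    rw [← map_pow]; exact (QuotientGroup.eq_one_iff _).mpr h
  exact Nat.not_dvd_ordCompl hr (orderOf_pos x).ne' (hrd.trans (orderOf_dvd_of_pow_eq_one h1))

theorem pow_eq_pow_of_mod {M : Type*} [Monoid M] {x : M} {n a b : ℕ} (hx : x ^ n = 1)
    (h : a ≡ b [MOD n]) : x ^ a = x ^ b :=
  by rw [← pow_mod_orderOf, h.of_dvd (orderOf_dvd_of_pow_eq_one hx), pow_mod_orderOf]

/-- An element of prime power order of the quotient lifts to an element of prime power order. -/
theorem exists_lift {r : ℕ} (hr : r.Prime) {y : Q} {j : ℕ} (hy : y ^ r ^ j = 1) :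
    ∃ u : G, π u = y ∧ ∃ i, u ^ r ^ i = 1 := by
  obtain ⟨g, rfl⟩ := QuotientGroup.mk'_surjective _ y
  set a := (orderOf g).factorization r
  set m := orderOf g / r ^ a
  have hcop : Nat.Coprime (r ^ (a + j)) m :=
    (Nat.coprime_ordCompl hr (orderOf_pos g).ne').pow_left _
  obtain ⟨k, hk1, hk2⟩ := Nat.chineseRemainder hcop 1 0
  refine ⟨g ^ k, ?_, a, ?_⟩
  · rw [map_pow, pow_eq_pow_of_mod hy (hk1.of_dvd (pow_dvd_pow r (by omega)))]
    exact pow_one _
  · have hmk : m ∣ k := Nat.modEq_zero_iff_dvd.mp hk2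
    obtain ⟨c, rfl⟩ := hmk
    rw [← pow_mul, show m * c * r ^ a = orderOf g * c by
      rw [mul_assoc, mul_comm c, ← mul_assoc, Nat.div_mul_cancel (Nat.ordProj_dvd _ _)],
      pow_mul, pow_orderOf_eq_one, one_pow]

theorem prime_eq_of_pow {u : G} (hu : u ∉ Subgroup.center G) {r s i j : ℕ} (hr : r.Prime) (hs : s.Prime)
    (h1 : u ^ r ^ i ∈ Subgroup.center G) (h2 : u ^ s ^ j = 1) : r = s := by
  by_contra hne
  have h1' : (π u) ^ r ^ i = 1 := by rw [← map_pow]; exact (QuotientGroup.eq_one_iff _).mpr h1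
  have h2' : (π u) ^ s ^ j = 1 := by rw [← map_pow, h2, map_one]
  exact hu ((QuotientGroup.eq_one_iff u).mp (orderOf_eq_one_iff.mp (Nat.eq_one_of_dvd_coprimes
    (Nat.Coprime.pow i j ((Nat.coprime_primes hr hs).mpr hne))
    (orderOf_dvd_of_pow_eq_one h1') (orderOf_dvd_of_pow_eq_one h2'))))

/-- A non-central element of prime power order has that prime dividing `cb`. -/
theorem dvd_cb {u : G} (hu : u ∉ Subgroup.center G) {r i : ℕ} (hr : r.Prime) (h : u ^ r ^ i = 1) :
    r ∣ cb u := by
  haveI : (( Subgroup.center G).subgroupOf (C u)).Normal := Subgroup.Normal.subgroupOf inferInstance _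
  set x : C u ⧸ (Subgroup.center G).subgroupOf (C u) :=
    QuotientGroup.mk' _ ⟨u, Subgroup.mem_centralizer_singleton_iff.mpr rfl⟩
  have hx1 : x ≠ 1 := fun h' => hu (Subgroup.mem_subgroupOf.mp ((QuotientGroup.eq_one_iff _).mp h'))
  have hx : x ^ r ^ i = 1 := by
    rw [← map_pow]
    convert map_one (QuotientGroup.mk' ((Subgroup.center G).subgroupOf (C u)))
    exact Subtype.ext h
  obtain ⟨l, -, hl⟩ := (Nat.dvd_prime_pow hr).mp (orderOf_dvd_of_pow_eq_one hx)
  rcases Nat.eq_zero_or_pos l with rfl | hl0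
  · exact absurd (orderOf_eq_one_iff.mp (by simpa using hl)) hx1
  · exact ((dvd_pow_self r hl0.ne').trans hl.symm.dvd).trans (orderOf_dvd_natCard x)

theorem C_mul_le_of_coprime {u v : G} (huv : Commute u v) {a b : ℕ} (hu : u ^ a = 1) (hv : v ^ b = 1)
    (hab : Nat.Coprime a b) : C (u * v) ≤ C u := by
  obtain ⟨k, hk1, hk2⟩ := Nat.chineseRemainder hab 1 0
  have h : (u * v) ^ k = u := by
    rw [huv.mul_pow, pow_eq_pow_of_mod hu hk1, pow_eq_pow_of_mod hv hk2, pow_one, pow_zero, mul_one]
  exact le_of_le_of_eq (C_le_of_pow (u * v) k) (congrArg C h)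

/-- The class size of `x` is neither a proper divisor nor a proper multiple of another one. -/
def Iso (x : G) : Prop :=
  ∀ y : G, y ∉ Subgroup.center G →
    ((C y).index ∣ (C x).index ∨ (C x).index ∣ (C y).index) → (C y).index = (C x).index

theorem Iso.eq {x y : G} (hx : Iso x) (hy : y ∉ Subgroup.center G) (hle : C x ≤ C y ∨ C y ≤ C x) :
    C y = C x := by
  have h1 : (C y).index = (C x).index := by
    rcases hle with hle | hle
    · exact hx y hy (Or.inl (Subgroup.index_dvd_of_le hle))
    · exact hx y hy (Or.inr (Subgroup.index_dvd_of_le hle))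
  have h2 : Nat.card (C y) = Nat.card (C x) := by
    have hy' := (C y).card_mul_index
    rw [h1, ← (C x).card_mul_index] at hy'
    exact Nat.eq_of_mul_eq_mul_right (Nat.pos_of_ne_zero Subgroup.index_ne_zero_of_finite) hy'
  rcases hle with hle | hle
  · exact (Subgroup.eq_of_le_of_card_ge hle h2.le).symm
  · exact Subgroup.eq_of_le_of_card_ge hle h2.ge

theorem Iso.congr {x y : G} (hx : Iso x) (h : (C y).index = (C x).index) : Iso y := fun z hz hd => by
  rw [h] at hd ⊢
  exact hx z hz hd

theorem cb_congr {x y : G} (h : C y = C x) : cb y = cb x := by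
  unfold cb
  rw [h]

/-- A non-central element of coprime prime power order commuting with an isolated element has the same
centraliser. -/
theorem eq_of_coprime {u w : G} (hiso : Iso u) (hu : u ∉ Subgroup.center G)
    (hw : w ∉ Subgroup.center G) {r s i j : ℕ} (hr : r.Prime) (hs : s.Prime) (hrs : r ≠ s)
    (hur : u ^ r ^ i = 1) (hws : w ^ s ^ j = 1) (hc : Commute u w) : C w = C u := by
  have hcop : Nat.Coprime (r ^ i) (s ^ j) := Nat.Coprime.pow i j ((Nat.coprime_primes hr hs).mpr hrs)
  have h1 : C (u * w) ≤ C u := C_mul_le_of_coprime hc hur hws hcop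
  have h2 : C (u * w) ≤ C w := by
    rw [hc.eq]; exact C_mul_le_of_coprime hc.symm hws hur hcop.symm
  have hne : u * w ∉ Subgroup.center G := fun h => by
    have h3 : C u = ⊤ := top_le_iff.mp (le_of_eq_of_le
      (Subgroup.index_eq_one.mp (index_eq_one_iff.mpr h)).symm h1)
    exact hu (index_eq_one_iff.mp (Subgroup.index_eq_one.mpr h3))
  have h3 := hiso.eq hne (Or.inr h1)
  exact hiso.eq hw (Or.inl (h3 ▸ h2))

/-- An isolated class size is attained by an element of `r`-power order for every prime `r` dividing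
`cb`. -/
theorem exists_primary_of_dvd {x : G} (hiso : Iso x) (hx : x ∉ Subgroup.center G) {r : ℕ} (hr : r.Prime)
    (hrd : r ∣ cb x) : ∃ w : G, w ∉ Subgroup.center G ∧ (∃ i, w ^ r ^ i = 1) ∧ C w = C x := by
  obtain ⟨s, hs, k, hk, j, hj⟩ := exists_primary hx
  have hu : C (x ^ k) = C x := hiso.eq hk (Or.inl (C_le_of_pow x k))
  by_cases hsr : s = r
  · exact ⟨x ^ k, hk, ⟨j, hsr ▸ hj⟩, hu⟩
  haveI : ((Subgroup.center G).subgroupOf (C x)).Normal := Subgroup.Normal.subgroupOf inferInstance _
  haveI := Fact.mk hr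
  obtain ⟨y, hy⟩ := exists_prime_orderOf_dvd_card'
    (G := C x ⧸ (Subgroup.center G).subgroupOf (C x)) r hrd
  obtain ⟨c, rfl⟩ := QuotientGroup.mk'_surjective _ y
  have hc : (c : G) ∉ Subgroup.center G := fun h => by
    rw [(QuotientGroup.eq_one_iff c).mpr (Subgroup.mem_subgroupOf.mpr h) |>
      (fun e => (show QuotientGroup.mk' ((Subgroup.center G).subgroupOf (C x)) c = 1 from e)),
      orderOf_one] at hy
    exact hr.one_lt.ne hy
  have hcr : (c : G) ^ r ∈ Subgroup.center G := by
    have h1 := pow_orderOf_eq_one (QuotientGroup.mk' ((Subgroup.center G).subgroupOf (C x)) c)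
    rw [hy, ← map_pow] at h1
    simpa [Subgroup.mem_subgroupOf] using (QuotientGroup.eq_one_iff _).mp h1
  obtain ⟨t, ht, l, hl, i, hi⟩ := exists_primary hc
  have htr : r = t := prime_eq_of_pow hl hr ht (i := 1) (by
    rw [pow_one, ← pow_mul, mul_comm, pow_mul]
    exact pow_mem hcr l) hi
  subst htr
  have hcw : Commute (x ^ k) ((c : G) ^ l) :=
    Commute.pow_pow (Subgroup.mem_centralizer_singleton_iff.mp c.2).symm k l
  exact ⟨_, hl, ⟨i, hi⟩,
    (eq_of_coprime (hiso.congr (by rw [hu])) hk hl hs hr hsr hj hi hcw).trans hu⟩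

/-- A prime dividing all values of `cb` of two different isolated class sizes: the contradiction. -/
theorem false_of_dvd {x y : G} (hiso : Iso x) (hx : x ∉ Subgroup.center G) (hy : y ∉ Subgroup.center G)
    {r s : ℕ} (hr : r.Prime) (hs : s.Prime) (hrs : r ≠ s) (hrd : r ∣ cb x) (hsd : s ∣ cb x)
    (hys : ¬ s ∣ (C y).index) (hne : (C y).index ≠ (C x).index) : False := by
  obtain ⟨t, ht, k, hk, j, hj⟩ := exists_primary hy
  set u := y ^ k
  have hus : ¬ s ∣ (C u).index := fun h =>
    hys (h.trans (Subgroup.index_dvd_of_le (C_le_of_pow y k)))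
  have hune : C u ≠ C x := fun h => hne (by
    rw [hiso.eq hy (Or.inr (h ▸ C_le_of_pow y k))])
  obtain ⟨x', hx', ⟨i, hi⟩, hCx'⟩ := exists_primary_of_dvd hiso hx hr hrd
  obtain ⟨w, hw, ⟨l, hl⟩, hCw⟩ := exists_primary_of_dvd hiso hx hs hsd
  haveI := Fact.mk hs
  -- conjugate `w` into the centraliser of `u`
  obtain ⟨g, hg⟩ : ∃ g : G, g * w * g⁻¹ ∈ C u := by
    let P : Sylow s (C u) := default
    have hP : Nat.card ((P : Subgroup (C u)).map (C u).subtype) =
        s ^ (Nat.card G).factorization s := by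
      rw [Subgroup.card_map_of_injective (C u).subtype_injective, P.card_eq_multiplicity,
        ← (C u).card_mul_index, Nat.factorization_mul Nat.card_pos.ne'
          Subgroup.index_ne_zero_of_finite, Finsupp.add_apply,
        Nat.factorization_eq_zero_of_not_dvd hus, add_zero]
    have hwp : IsPGroup s (Subgroup.zpowers w) := by
      obtain ⟨m, -, hm⟩ := (Nat.dvd_prime_pow hs).mp (orderOf_dvd_of_pow_eq_one hl)
      exact IsPGroup.of_card (n := m) (by rw [Nat.card_zpowers, hm])
    obtain ⟨R, hR⟩ := hwp.exists_le_sylow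
    obtain ⟨g, hg⟩ := MulAction.exists_smul_eq G R (Sylow.ofCard _ hP)
    refine ⟨g, ?_⟩
    have h1 : g * w * g⁻¹ ∈ ((g • R : Sylow s G) : Subgroup G) := by
      rw [Sylow.coe_subgroup_smul]
      exact ⟨w, hR (Subgroup.mem_zpowers w), rfl⟩
    rw [hg] at h1
    exact Subgroup.map_subtype_le _ h1
  have hwn : g * w * g⁻¹ ∉ Subgroup.center G := fun h => by
    rw [← index_eq_one_iff, index_conj, index_eq_one_iff] at h
    exact hw h
  have hxn : g * x' * g⁻¹ ∉ Subgroup.center G := fun h => by
    rw [← index_eq_one_iff, index_conj, index_eq_one_iff] at h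
    exact hx' h
  have hpow : ∀ (a : G) (N : ℕ), a ^ N = 1 → (g * a * g⁻¹) ^ N = 1 := fun a N h => by
    rw [← MulAut.conj_apply, ← map_pow, h, map_one]
  have hCeq : C (g * w * g⁻¹) = C (g * x' * g⁻¹) := by
    have h1 : C w = C x' := hCw.trans hCx'.symm
    ext z
    have h2 := SetLike.ext_iff.mp h1 (g⁻¹ * z * g)
    rw [Subgroup.mem_centralizer_singleton_iff, Subgroup.mem_centralizer_singleton_iff] at h2 ⊢
    have key : ∀ a : G, z * (g * a * g⁻¹) = g * a * g⁻¹ * z ↔
        g⁻¹ * z * g * a = a * (g⁻¹ * z * g) := fun a => by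
      constructor
      · intro h
        calc g⁻¹ * z * g * a = g⁻¹ * (z * (g * a * g⁻¹)) * g := by group
          _ = g⁻¹ * (g * a * g⁻¹ * z) * g := by rw [h]
          _ = a * (g⁻¹ * z * g) := by group
      · intro h
        calc z * (g * a * g⁻¹) = g * (g⁻¹ * z * g * a) * g⁻¹ := by group
          _ = g * (a * (g⁻¹ * z * g)) * g⁻¹ := by rw [h]
          _ = g * a * g⁻¹ * z := by group
    rw [key, key]
    exact h2
  have hisow : Iso (g * w * g⁻¹) := hiso.congr (by rw [index_conj, hCw])
  have hisox : Iso (g * x' * g⁻¹) := hiso.congr (by rw [index_conj, hCx'])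
  have hcu : Commute (g * w * g⁻¹) u :=
    Subgroup.mem_centralizer_singleton_iff.mp hg
  have key : C u = C (g * x' * g⁻¹) := by
    by_cases htr : t = r
    · rw [← hCeq]
      exact eq_of_coprime hisow hwn hk hs ht (by rw [htr]; exact Ne.symm hrs) (hpow w _ hl) hj hcu
    · refine eq_of_coprime hisox hxn hk hr ht (Ne.symm htr) (hpow x' _ hi) hj ?_
      have h1 : u ∈ C (g * w * g⁻¹) := Subgroup.mem_centralizer_singleton_iff.mpr hcu.eq.symm
      rw [hCeq] at h1
      exact (Subgroup.mem_centralizer_singleton_iff.mp h1).symm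
  have h1 : (C u).index = (C x).index := by rw [key, index_conj, hCx']
  have h2 : (C u).index ∣ (C y).index := Subgroup.index_dvd_of_le (C_le_of_pow y k)
  exact hne (hiso y hy (Or.inr (h1 ▸ h2)))

/-- The map `g ↦ [g, u]` on the preimage of the centraliser of the image of `u`. -/
noncomputable def commHom (u : G) :
    ↥((Subgroup.centralizer ({π u} : Set Q)).comap π) →* Subgroup.center G where
  toFun g := ⟨(g : G) * u * (g : G)⁻¹ * u⁻¹, by
    have h : π (g : G) * π u = π u * π (g : G) := Subgroup.mem_centralizer_singleton_iff.mp g.2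
    refine (QuotientGroup.eq_one_iff _).mp ?_
    show π ((g : G) * u * (g : G)⁻¹ * u⁻¹) = 1
    simp only [map_mul, map_inv]
    rw [h, mul_inv_cancel_right, mul_inv_cancel]⟩
  map_one' := Subtype.ext (by simp)
  map_mul' g h := by
    apply Subtype.ext
    have h' : π (h : G) * π u = π u * π (h : G) := Subgroup.mem_centralizer_singleton_iff.mp h.2
    have hz : (h : G) * u * (h : G)⁻¹ * u⁻¹ ∈ Subgroup.center G := by
      refine (QuotientGroup.eq_one_iff _).mp ?_
      show π ((h : G) * u * (h : G)⁻¹ * u⁻¹) = 1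
      simp only [map_mul, map_inv]
      rw [h', mul_inv_cancel_right, mul_inv_cancel]
    show ((g : G) * h) * u * ((g : G) * h)⁻¹ * u⁻¹ =
      (g : G) * u * (g : G)⁻¹ * u⁻¹ * ((h : G) * u * (h : G)⁻¹ * u⁻¹)
    calc ((g : G) * h) * u * ((g : G) * h)⁻¹ * u⁻¹
        = (g : G) * ((h : G) * u * (h : G)⁻¹ * u⁻¹) * u * (g : G)⁻¹ * u⁻¹ := by group
      _ = ((h : G) * u * (h : G)⁻¹ * u⁻¹) * (g : G) * u * (g : G)⁻¹ * u⁻¹ := by
          rw [Subgroup.mem_center_iff.mp hz (g : G)]
      _ = ((h : G) * u * (h : G)⁻¹ * u⁻¹) * ((g : G) * u * (g : G)⁻¹ * u⁻¹) := by group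
      _ = _ := (Subgroup.mem_center_iff.mp hz _).symm

theorem commHom_ker (u : G) : (commHom u).ker =
    (C u).subgroupOf ((Subgroup.centralizer ({π u} : Set Q)).comap π) := by
  ext g
  rw [MonoidHom.mem_ker, Subgroup.mem_subgroupOf, Subgroup.mem_centralizer_singleton_iff]
  constructor
  · intro h
    have h1 : (g : G) * u * (g : G)⁻¹ * u⁻¹ = 1 := congrArg Subtype.val h
    exact mul_inv_eq_iff_eq_mul.mp (mul_inv_eq_one.mp h1)
  · intro h
    apply Subtype.ext
    show (g : G) * u * (g : G)⁻¹ * u⁻¹ = 1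
    rw [h, mul_inv_cancel_right, mul_inv_cancel]

theorem map_C_le (u : G) : (C u).map π ≤ Subgroup.centralizer ({π u} : Set Q) := by
  rintro _ ⟨c, hc, rfl⟩
  rw [Subgroup.mem_centralizer_singleton_iff, ← map_mul,
    Subgroup.mem_centralizer_singleton_iff.mp hc, map_mul]

theorem card_map_C (u : G) : Nat.card ((C u).map π) = cb u := by
  have h := Subgroup.index_map_eq (H := C u)
    (QuotientGroup.mk'_surjective (Subgroup.center G))
    (by rw [QuotientGroup.ker_mk']; exact center_le u)
  have h1 := ((C u).map π).card_mul_index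
  rw [h, ← cb_mul_index u] at h1
  exact Nat.eq_of_mul_eq_mul_right (Nat.pos_of_ne_zero Subgroup.index_ne_zero_of_finite) h1

/-- The centraliser in the quotient of the image of an `r`-element. -/
theorem exists_card_centralizer {u : G} {r i : ℕ} (hr : r.Prime) (hu : u ^ r ^ i = 1) :
    ∃ j, Nat.card (Subgroup.centralizer ({π u} : Set Q)) = cb u * r ^ j := by
  set H := (Subgroup.centralizer ({π u} : Set Q)).comap π with hH
  have hle : C u ≤ H := fun c hc => map_C_le u ⟨c, hc, rfl⟩
  have hexp : ∀ z : (commHom u).range, (z : Subgroup.center G) ^ r ^ i = 1 := by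
    rintro ⟨_, g, rfl⟩
    apply Subtype.ext
    show ((g : G) * u * (g : G)⁻¹ * u⁻¹) ^ r ^ i = 1
    set c := (g : G) * u * (g : G)⁻¹ * u⁻¹ with hc
    have hcz : c ∈ Subgroup.center G := (commHom u g).2
    have h1 : (g : G) * u * (g : G)⁻¹ = c * u := by rw [hc]; group
    have h2 : (c * u) ^ r ^ i = 1 := by rw [← h1, ← MulAut.conj_apply, ← map_pow, hu, map_one]
    rwa [(show Commute c u from (Subgroup.mem_center_iff.mp hcz u).symm).mul_pow, hu, mul_one] at h2
  obtain ⟨j, hj⟩ : ∃ j, (commHom u).ker.index = r ^ j := by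
    rw [Subgroup.index_ker]
    haveI := Fact.mk hr
    exact IsPGroup.iff_card.mp fun z => ⟨i, Subtype.ext (by rw [SubmonoidClass.coe_pow]; exact hexp z)⟩
  rw [commHom_ker] at hj
  refine ⟨j, ?_⟩
  have h1 : Nat.card H = Nat.card (C u) * r ^ j := by
    rw [← ((C u).subgroupOf H).card_mul_index, hj,
      Nat.card_congr (Subgroup.subgroupOfEquivOfLe hle).toEquiv]
  have h2 : Nat.card H = Nat.card (Subgroup.center G) *
      Nat.card (Subgroup.centralizer ({π u} : Set Q)) := by
    have h3 := Subgroup.index_comap_of_surjective (Subgroup.centralizer ({π u} : Set Q))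
      (QuotientGroup.mk'_surjective (Subgroup.center G))
    have h4 := H.card_mul_index
    rw [hH, h3, ← hH, ← (Subgroup.center G).card_mul_index,
      show (Subgroup.center G).index = Nat.card Q from rfl,
      ← (Subgroup.centralizer ({π u} : Set Q)).card_mul_index, ← mul_assoc] at h4
    exact Nat.eq_of_mul_eq_mul_right (Nat.pos_of_ne_zero Subgroup.index_ne_zero_of_finite) h4
  rw [h2, ← card_center_mul_cb u, mul_assoc] at h1
  exact Nat.eq_of_mul_eq_mul_left Nat.card_pos h1

/-- If `cb u` contains the full `r`-part, the centraliser in the quotient is the image. -/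
theorem centralizer_eq_map {u : G} {r i : ℕ} (hr : r.Prime) (hu : u ^ r ^ i = 1)
    (hfull : (cb u).factorization r = (Nat.card Q).factorization r) :
    Subgroup.centralizer ({π u} : Set Q) = (C u).map π := by
  obtain ⟨j, hj⟩ := exists_card_centralizer hr hu
  have hdvd : cb u * r ^ j ∣ Nat.card Q := hj ▸ Subgroup.card_subgroup_dvd_card _
  have h1 : (cb u * r ^ j).factorization r ≤ (Nat.card Q).factorization r :=
    (Nat.factorization_le_iff_dvd (Nat.mul_ne_zero (cb_pos u).ne' (pow_ne_zero _ hr.ne_zero))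
      Nat.card_pos.ne').mpr hdvd r
  rw [Nat.factorization_mul (cb_pos u).ne' (pow_ne_zero _ hr.ne_zero), Finsupp.add_apply,
    hr.factorization_pow, Finsupp.single_eq_same] at h1
  have hj0 : j = 0 := by omega
  refine (Subgroup.eq_of_le_of_card_ge (map_C_le u) ?_).symm
  rw [hj, hj0, pow_zero, mul_one, card_map_C]

theorem commute_of_map {u v : G} (h : Subgroup.centralizer ({π u} : Set Q) = (C u).map π)
    (huv : Commute (π u) (π v)) : Commute u v := by
  have h1 : π v ∈ (C u).map π := h ▸ Subgroup.mem_centralizer_singleton_iff.mpr huv.eq.symm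
  have h2 : v ∈ ((C u).map π).comap π := h1
  rw [Subgroup.comap_map_eq_self (by rw [QuotientGroup.ker_mk']; exact center_le u)] at h2
  exact (Subgroup.mem_centralizer_singleton_iff.mp h2).symm

/-- An invariant set all whose class sizes are divisible by `m` has size divisible by `m`. -/
theorem dvd_card_of_invariant {M : Type*} [Group M] [Finite M] (S : Set M)
    (hS : ∀ g x : M, x ∈ S → g * x * g⁻¹ ∈ S) {m : ℕ}
    (hm : ∀ x ∈ S, m ∣ (Subgroup.centralizer ({x} : Set M)).index) : m ∣ Nat.card S := by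
  classical
  letI : MulAction (ConjAct M) S :=
    { smul := fun g x => ⟨ConjAct.ofConjAct g * x * (ConjAct.ofConjAct g)⁻¹, hS _ _ x.2⟩
      one_smul := fun x => Subtype.ext (by show _ * (x : M) * _ = _; simp)
      mul_smul := fun g h x => Subtype.ext (by
        show ConjAct.ofConjAct (g * h) * (x : M) * (ConjAct.ofConjAct (g * h))⁻¹ = _
        show _ = ConjAct.ofConjAct g * (ConjAct.ofConjAct h * (x : M) * (ConjAct.ofConjAct h)⁻¹) *
          (ConjAct.ofConjAct g)⁻¹
        simp only [ConjAct.ofConjAct_mul]; group) }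
  haveI := Fintype.ofFinite (Quotient (MulAction.orbitRel (ConjAct M) S))
  rw [Nat.card_congr (MulAction.selfEquivSigmaOrbits (ConjAct M) S), Nat.card_sigma]
  refine Finset.dvd_sum fun o _ => ?_
  have h1 : ∀ x : S, m ∣ Nat.card (MulAction.orbit (ConjAct M) x) := by
    intro x
    have h2 := Nat.card_congr (MulAction.orbitEquivQuotientStabilizer (ConjAct M) x)
    have h3 : (MulAction.stabilizer (ConjAct M) x).index = (Subgroup.centralizer ({(x : M)} : Set M)).index := by
      have h4 : MulAction.stabilizer (ConjAct M) x =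
          (Subgroup.centralizer ({(x : M)} : Set M)).comap ConjAct.ofConjAct.toMonoidHom := by
        ext g
        show g • x = x ↔ ConjAct.ofConjAct g ∈ Subgroup.centralizer ({(x : M)} : Set M)
        rw [Subgroup.mem_centralizer_singleton_iff, Subtype.ext_iff]
        exact mul_inv_eq_iff_eq_mul
      rw [h4]
      exact Subgroup.index_comap_of_surjective _ ConjAct.ofConjAct.surjective
    rw [h2]
    exact (hm x x.2).trans h3.symm.dvd
  exact h1 _

end CfsgLib.PSL2Sizes
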