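import Cfsg.Agent.Lib.PSL2Sizes.Basic
import Cfsg.Agent.Lib.PSL2Spec.Main

/-!
# Groups with the class sizes of `PSL₂(q)`, `q` even: the quotient by the centre is `PSL₂(q)`
-/

set_option autoImplicit false
set_option linter.unusedSectionVars false
set_option linter.style.haveILetI false

namespace CfsgLib.PSL2Sizes

variable {G : Type*} [Group G] [Finite G]

local notation "Q" => G ⧸ Subgroup.center G
local notation "π" => QuotientGroup.mk' (Subgroup.center G)

/-- `G` has the class sizes of `PSL₂(q)`, `q = 2 ^ f ≥ 4`. -/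
structure EvenHyp (G : Type*) [Group G] [Finite G] (f q : ℕ) : Prop where
  q_eq : q = 2 ^ f
  four_le : 4 ≤ q
  sizes : ∀ m : ℕ, (∃ x : G, (C x).index = m) ↔
    m = 1 ∨ m = (q - 1) * (q + 1) ∨ m = q * (q + 1) ∨ m = q * (q - 1)

namespace EvenHyp

variable {f q : ℕ} (h : EvenHyp G f q)
include h

theorem two_dvd : 2 ∣ q := by
  rw [h.q_eq]
  refine dvd_pow_self 2 fun hf => ?_
  have := h.four_le
  rw [h.q_eq, hf, pow_zero] at this
  omega

theorem coprimes : Nat.Coprime q (q - 1) ∧ Nat.Coprime q (q + 1) ∧ Nat.Coprime (q - 1) (q + 1) := by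
  have h4 := h.four_le
  have h2 := h.two_dvd
  refine ⟨?_, ?_, ?_⟩
  · refine Nat.coprime_of_dvd fun k hk h1 h3 => hk.one_lt.ne' (Nat.dvd_one.mp ?_)
    have := Nat.dvd_sub h1 h3
    rwa [show q - (q - 1) = 1 by omega] at this
  · refine Nat.coprime_of_dvd fun k hk h1 h3 => hk.one_lt.ne' (Nat.dvd_one.mp ?_)
    exact (Nat.dvd_add_right h1).mp h3
  · refine Nat.coprime_of_dvd fun k hk h1 h3 => ?_
    have h5 : k ∣ 2 := by
      have := Nat.dvd_sub h3 h1
      rwa [show q + 1 - (q - 1) = 2 by omega] at this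
    obtain rfl := (Nat.prime_dvd_prime_iff_eq hk Nat.prime_two).mp h5
    omega

theorem size_cases {x : G} (hx : x ∉ Subgroup.center G) :
    (C x).index = (q - 1) * (q + 1) ∨ (C x).index = q * (q + 1) ∨ (C x).index = q * (q - 1) :=
  ((h.sizes _).mp ⟨x, rfl⟩).resolve_left fun h1 => hx (index_eq_one_iff.mp h1)

theorem exists_size {m : ℕ}
    (hm : m = (q - 1) * (q + 1) ∨ m = q * (q + 1) ∨ m = q * (q - 1)) :
    ∃ x : G, x ∉ Subgroup.center G ∧ (C x).index = m := by
  obtain ⟨x, hx⟩ := (h.sizes m).mpr (Or.inr hm)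
  refine ⟨x, fun hc => ?_, hx⟩
  rw [index_eq_one_iff.mpr hc] at hx
  have h4 := h.four_le
  have h1 : 1 < m := by
    rcases hm with rfl | rfl | rfl <;>
      exact lt_of_lt_of_le (show 1 < 3 * 3 by norm_num) (Nat.mul_le_mul (by omega) (by omega))
  omega

theorem iso {x : G} (hx : x ∉ Subgroup.center G) : Iso x := by
  obtain ⟨c1, c2, c3⟩ := h.coprimes
  have h4 := h.four_le
  have key : ∀ a b c : ℕ, 1 < a → 1 < c → Nat.Coprime a b → Nat.Coprime a c → ∀ {m : ℕ}, m ∣ b * c →
      a ∣ m → False := fun a b c ha _ hab hac m hm ham =>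
    ha.ne' ((hab.mul_right hac).eq_one_of_dvd (ham.trans hm))
  intro y hy hd
  rcases h.size_cases hx with hx' | hx' | hx' <;> rcases h.size_cases hy with hy' | hy' | hy' <;>
    rw [hx', hy'] at hd ⊢
  all_goals exfalso
  · rcases hd with hd | hd
    · exact key q (q - 1) (q + 1) (by omega) (by omega) c1 c2 hd (dvd_mul_right _ _)
    · exact key (q - 1) q (q + 1) (by omega) (by omega) c1.symm c3 hd (dvd_mul_right _ _)
  · rcases hd with hd | hd
    · exact key q (q - 1) (q + 1) (by omega) (by omega) c1 c2 hd (dvd_mul_right _ _)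
    · exact key (q + 1) q (q - 1) (by omega) (by omega) c2.symm c3.symm hd (dvd_mul_left _ _)
  · rcases hd with hd | hd
    · exact key (q - 1) q (q + 1) (by omega) (by omega) c1.symm c3 hd (dvd_mul_right _ _)
    · exact key q (q - 1) (q + 1) (by omega) (by omega) c1 c2 hd (dvd_mul_right _ _)
  · rcases hd with hd | hd
    · exact key (q - 1) q (q + 1) (by omega) (by omega) c1.symm c3 hd (dvd_mul_left _ _)
    · exact key (q + 1) q (q - 1) (by omega) (by omega) c2.symm c3.symm hd (dvd_mul_left _ _)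
  · rcases hd with hd | hd
    · exact key (q + 1) q (q - 1) (by omega) (by omega) c2.symm c3.symm hd (dvd_mul_left _ _)
    · exact key q (q - 1) (q + 1) (by omega) (by omega) c1 c2 hd (dvd_mul_right _ _)
  · rcases hd with hd | hd
    · exact key (q + 1) q (q - 1) (by omega) (by omega) c2.symm c3.symm hd (dvd_mul_left _ _)
    · exact key (q - 1) q (q + 1) (by omega) (by omega) c1.symm c3 hd (dvd_mul_left _ _)

theorem card_eq : Nat.card Q = q * ((q - 1) * (q + 1)) := by
  obtain ⟨c1, c2, c3⟩ := h.coprimes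
  have h4 := h.four_le
  obtain ⟨xa, hxa, hia⟩ := h.exists_size (Or.inl rfl)
  obtain ⟨xb, hxb, hib⟩ := h.exists_size (Or.inr (Or.inl rfl))
  obtain ⟨xc, hxc, hic⟩ := h.exists_size (Or.inr (Or.inr rfl))
  obtain ⟨M, hM⟩ : q * ((q - 1) * (q + 1)) ∣ Nat.card Q :=
    (c1.mul_right c2).mul_dvd_of_dvd_of_dvd
      ((dvd_mul_right q (q + 1)).trans (hib ▸ Dvd.intro_left _ (cb_mul_index xb)))
      (hia ▸ Dvd.intro_left _ (cb_mul_index xa))
  suffices M = 1 by rw [hM, this, mul_one]
  by_contra hM1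
  obtain ⟨s, hs, hsM⟩ := Nat.exists_prime_and_dvd hM1
  have hcba : cb xa = q * M := by
    have h1 := cb_mul_index xa
    rw [hia, hM] at h1
    exact Nat.eq_of_mul_eq_mul_right (Nat.mul_pos (show 0 < q - 1 by omega) (Nat.succ_pos q))
      (show cb xa * ((q - 1) * (q + 1)) = q * M * ((q - 1) * (q + 1)) by rw [h1]; ring)
  have hcbc : cb xc = (q + 1) * M := by
    have h1 := cb_mul_index xc
    rw [hic, hM] at h1
    exact Nat.eq_of_mul_eq_mul_right (Nat.mul_pos (show 0 < q by omega) (show 0 < q - 1 by omega))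
      (by rw [h1]; ring)
  have hne1 : (q - 1) * (q + 1) ≠ q * (q - 1) := by
    rw [mul_comm q (q - 1)]
    intro h'
    have := Nat.eq_of_mul_eq_mul_left (show 0 < q - 1 by omega) h'
    omega
  have hne2 : (q - 1) * (q + 1) ≠ q * (q + 1) := by
    intro h'
    have := Nat.eq_of_mul_eq_mul_right (show 0 < q + 1 by omega) h'
    omega
  have h2q := h.two_dvd
  by_cases hs2 : s = 2
  · subst hs2
    obtain ⟨r, hr, hrd⟩ := Nat.exists_prime_and_dvd (show q + 1 ≠ 1 by omega)
    refine false_of_dvd (h.iso hxc) hxc hxa hr hs ?_ (hcbc ▸ dvd_mul_of_dvd_left hrd M)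
      (hcbc ▸ dvd_mul_of_dvd_right hsM _) ?_ (by rw [hia, hic]; exact hne1)
    · rintro rfl; omega
    · rw [hia]; intro h'
      rcases hs.dvd_mul.mp h' with h' | h' <;> omega
  · have hsq : ¬ s ∣ q := fun h' => hs2 ((Nat.prime_dvd_prime_iff_eq hs Nat.prime_two).mp
      (hs.dvd_of_dvd_pow (h.q_eq ▸ h')))
    by_cases hsm : s ∣ q - 1
    · refine false_of_dvd (h.iso hxa) hxa hxb Nat.prime_two hs (Ne.symm hs2)
        (hcba ▸ dvd_mul_of_dvd_left h2q M) (hcba ▸ dvd_mul_of_dvd_right hsM q) ?_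
        (by rw [hia, hib]; exact hne2.symm)
      rw [hib]; intro h'
      exact (hs.dvd_mul.mp h').elim hsq fun h'' => hs.one_lt.ne' (Nat.eq_one_of_dvd_coprimes c3 hsm h'')
    · refine false_of_dvd (h.iso hxa) hxa hxc Nat.prime_two hs (Ne.symm hs2)
        (hcba ▸ dvd_mul_of_dvd_left h2q M) (hcba ▸ dvd_mul_of_dvd_right hsM q) ?_
        (by rw [hia, hic]; exact hne1.symm)
      rw [hic]; intro h'
      exact (hs.dvd_mul.mp h').elim hsq hsm

theorem cb_cases {x : G} (hx : x ∉ Subgroup.center G) : cb x = q ∨ cb x = q - 1 ∨ cb x = q + 1 := by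
  have h4 := h.four_le
  have h1 := cb_mul_index x
  rw [h.card_eq] at h1
  rcases h.size_cases hx with h' | h' | h' <;> rw [h'] at h1
  · exact Or.inl (Nat.eq_of_mul_eq_mul_right (Nat.mul_pos (by omega) (by omega)) h1)
  · exact Or.inr (Or.inl (Nat.eq_of_mul_eq_mul_right
      (Nat.mul_pos (show 0 < q by omega) (show 0 < q + 1 by omega)) (by rw [h1]; ring)))
  · exact Or.inr (Or.inr (Nat.eq_of_mul_eq_mul_right
      (Nat.mul_pos (show 0 < q by omega) (show 0 < q - 1 by omega)) (by rw [h1]; ring)))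

/-- Elements of prime order: the order of the centraliser in the quotient. -/
theorem card_centralizer_of_prime {y : Q} {r : ℕ} (hr : r.Prime) (hy : orderOf y = r) :
    ∃ a, (a = q ∨ a = q - 1 ∨ a = q + 1) ∧ r ∣ a ∧
      Nat.card (Subgroup.centralizer ({y} : Set Q)) = a := by
  obtain ⟨c1, c2, c3⟩ := h.coprimes
  have h4 := h.four_le
  obtain ⟨u, rfl, i, hi⟩ := exists_lift hr (y := y) (j := 1) (by rw [pow_one, ← hy, pow_orderOf_eq_one])
  have hu : u ∉ Subgroup.center G := fun h' => by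
    rw [show π u = 1 from (QuotientGroup.eq_one_iff u).mpr h', orderOf_one] at hy
    exact hr.one_lt.ne hy
  have hru := dvd_cb hu hr hi
  refine ⟨cb u, h.cb_cases hu, hru, ?_⟩
  rw [centralizer_eq_map hr hi ?_, card_map_C]
  rw [← cb_mul_index u, Nat.factorization_mul (cb_pos u).ne' Subgroup.index_ne_zero_of_finite,
    Finsupp.add_apply, Nat.factorization_eq_zero_of_not_dvd (?_ : ¬ r ∣ (C u).index), add_zero]
  intro hd
  have h1 := cb_mul_index u
  rw [h.card_eq] at h1
  rcases h.cb_cases hu with h' | h' | h' <;> rw [h'] at h1 hru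
  · rw [Nat.eq_of_mul_eq_mul_left (show 0 < q by omega) h1] at hd
    exact hr.one_lt.ne' (Nat.eq_one_of_dvd_coprimes (c1.mul_right c2) hru hd)
  · rw [Nat.eq_of_mul_eq_mul_left (show 0 < q - 1 by omega)
      (show (q - 1) * (C u).index = (q - 1) * (q * (q + 1)) by rw [h1]; ring)] at hd
    exact hr.one_lt.ne' (Nat.eq_one_of_dvd_coprimes (c1.symm.mul_right c3) hru hd)
  · rw [Nat.eq_of_mul_eq_mul_left (Nat.succ_pos q)
      (show (q + 1) * (C u).index = (q + 1) * (q * (q - 1)) by rw [h1]; ring)] at hd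
    exact hr.one_lt.ne' (Nat.eq_one_of_dvd_coprimes (c2.symm.mul_right c3.symm) hru hd)

theorem trichotomy {x : Q} (hx : x ≠ 1) :
    (orderOf x ∣ q ∧ (q - 1) * (q + 1) ∣ (Subgroup.centralizer ({x} : Set Q)).index) ∨
    (orderOf x ∣ q - 1 ∧ q * (q + 1) ∣ (Subgroup.centralizer ({x} : Set Q)).index) ∨
    (orderOf x ∣ q + 1 ∧ q * (q - 1) ∣ (Subgroup.centralizer ({x} : Set Q)).index) := by
  have h4 := h.four_le
  obtain ⟨r, hr, hrd⟩ := Nat.exists_prime_and_dvd (fun h' => hx (orderOf_eq_one_iff.mp h'))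
  set y := x ^ (orderOf x / r)
  have hy : orderOf y = r := orderOf_pow_orderOf_div (orderOf_pos x).ne' hrd
  have hle : Subgroup.centralizer ({x} : Set Q) ≤ Subgroup.centralizer ({y} : Set Q) := fun g hg =>
    Subgroup.mem_centralizer_singleton_iff.mpr
      ((show Commute g x from Subgroup.mem_centralizer_singleton_iff.mp hg).pow_right _)
  have hxm : x ∈ Subgroup.centralizer ({x} : Set Q) := Subgroup.mem_centralizer_singleton_iff.mpr rfl
  obtain ⟨a, ha, -, hcard⟩ := h.card_centralizer_of_prime hr hy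
  have h1 : Nat.card (Subgroup.centralizer ({x} : Set Q)) ∣ a := hcard ▸ Subgroup.card_dvd_of_le hle
  have h2 : orderOf x ∣ a :=
    ((Subgroup.orderOf_coe (⟨x, hxm⟩ : Subgroup.centralizer ({x} : Set Q))).dvd.trans
      (orderOf_dvd_natCard _)).trans h1
  obtain ⟨c, hc⟩ := h1
  have h3 := (Subgroup.centralizer ({x} : Set Q)).card_mul_index
  have key : ∀ b, Nat.card Q = a * b → b ∣ (Subgroup.centralizer ({x} : Set Q)).index := fun b hb => by
    rw [hb, hc, mul_assoc] at h3
    exact ⟨c, (Nat.eq_of_mul_eq_mul_left Nat.card_pos h3).trans (mul_comm _ _)⟩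
  rw [h.card_eq] at key
  rcases ha with rfl | rfl | rfl
  · exact Or.inl ⟨h2, key _ rfl⟩
  · exact Or.inr (Or.inl ⟨h2, key _ (by ring)⟩)
  · exact Or.inr (Or.inr ⟨h2, key _ (by ring)⟩)

theorem card_orderOf_dvd_q : Nat.card {x : Q | x ≠ 1 ∧ orderOf x ∣ q} = (q - 1) * (q + 1) := by
  classical
  obtain ⟨c1, c2, c3⟩ := h.coprimes
  haveI : Fintype Q := Fintype.ofFinite _
  let S : ℕ → Set Q := fun a => {x : Q | x ≠ 1 ∧ orderOf x ∣ a}
  have hinv : ∀ a, ∀ g x : Q, x ∈ S a → g * x * g⁻¹ ∈ S a := fun a g x hx =>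
    ⟨fun h' => hx.1 (by rwa [mul_inv_eq_one, mul_eq_left] at h'), by
      rw [← MulAut.conj_apply, (MulAut.conj g).orderOf_eq]; exact hx.2⟩
  have excl : ∀ x : Q, x ≠ 1 → ∀ a b : ℕ, Nat.Coprime a b → orderOf x ∣ a → orderOf x ∣ b → False :=
    fun x hx a b hab h1 h2 => hx (orderOf_eq_one_iff.mp (Nat.eq_one_of_dvd_coprimes hab h1 h2))
  obtain ⟨A, hA⟩ : (q - 1) * (q + 1) ∣ Nat.card (S q) := dvd_card_of_invariant _ (hinv q) fun x hx => by
    rcases h.trichotomy hx.1 with h' | h' | h'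
    · exact h'.2
    · exact (excl x hx.1 _ _ c1 hx.2 h'.1).elim
    · exact (excl x hx.1 _ _ c2 hx.2 h'.1).elim
  obtain ⟨B, hB⟩ : q * (q + 1) ∣ Nat.card (S (q - 1)) := dvd_card_of_invariant _ (hinv _) fun x hx => by
    rcases h.trichotomy hx.1 with h' | h' | h'
    · exact (excl x hx.1 _ _ c1 h'.1 hx.2).elim
    · exact h'.2
    · exact (excl x hx.1 _ _ c3 hx.2 h'.1).elim
  obtain ⟨D, hD⟩ : q * (q - 1) ∣ Nat.card (S (q + 1)) := dvd_card_of_invariant _ (hinv _) fun x hx => by
    rcases h.trichotomy hx.1 with h' | h' | h'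
    · exact (excl x hx.1 _ _ c2 h'.1 hx.2).elim
    · exact (excl x hx.1 _ _ c3 h'.1 hx.2).elim
    · exact h'.2
  have hsum : Nat.card Q = 1 + Nat.card (S q) + Nat.card (S (q - 1)) + Nat.card (S (q + 1)) := by
    have h0 : ∀ a, Nat.card (S a) = (Finset.univ.filter fun x : Q => x ≠ 1 ∧ orderOf x ∣ a).card :=
      fun a => by rw [← Fintype.card_subtype, ← Nat.card_eq_fintype_card]; rfl
    rw [h0, h0, h0, Nat.card_eq_fintype_card, ← Finset.card_univ,
      show (1 : ℕ) = ({1} : Finset Q).card from rfl,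
      ← Finset.card_union_of_disjoint, ← Finset.card_union_of_disjoint,
      ← Finset.card_union_of_disjoint]
    · congr 1
      refine (Finset.eq_univ_of_forall fun x => ?_).symm
      simp only [Finset.mem_union, Finset.mem_singleton, Finset.mem_filter, Finset.mem_univ, true_and]
      by_cases hx : x = 1
      · tauto
      · rcases h.trichotomy hx with h' | h' | h' <;> tauto
    all_goals
      rw [Finset.disjoint_left]
      intro x
      simp only [Finset.mem_union, Finset.mem_singleton, Finset.mem_filter, Finset.mem_univ, true_and]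
      rintro h1 ⟨h2, h3⟩
    · rcases h1 with (h1 | ⟨-, h1⟩) | ⟨-, h1⟩
      · exact h2 h1
      · exact excl x h2 _ _ c2 h1 h3
      · exact excl x h2 _ _ c3 h1 h3
    · rcases h1 with h1 | ⟨-, h1⟩
      · exact h2 h1
      · exact excl x h2 _ _ c1 h1 h3
    · exact h2 h1
  rw [h.card_eq, hA, hB, hD] at hsum
  have h4 := h.four_le
  obtain ⟨k, rfl⟩ : ∃ k, q = k + 1 := ⟨q - 1, by omega⟩
  simp only [Nat.add_sub_cancel] at hsum hA ⊢
  have e1 : ((k:ℤ) + 1) * (k * (k + 1 + 1)) =
      1 + k * (k + 1 + 1) * A + (k + 1) * (k + 1 + 1) * B + (k + 1) * k * D := by exact_mod_cast hsum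
  have hAlb : 1 ≤ A := by
    by_contra hlt
    obtain rfl : A = 0 := by omega
    have : k + 1 ∣ 1 := by
      refine (Nat.dvd_add_right (dvd_mul_right (k + 1) ((k + 2) * B + k * D))).mp ?_
      exact ⟨k * (k + 1 + 1), by linarith⟩
    exact absurd (Nat.dvd_one.mp this) (by omega)
  have hBlb : k ≤ 2 * B + 1 := by
    refine Nat.le_of_dvd (by omega) (Int.natCast_dvd_natCast.mp ?_)
    push_cast
    refine ⟨((k:ℤ) + 1) * (k + 2) - (k + 2) * A - (k + 3) * B - (k + 1) * D, ?_⟩
    linarith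
  have hDlb : k + 2 ≤ 2 * D + 1 := by
    refine Nat.le_of_dvd (by omega) (Int.natCast_dvd_natCast.mp ?_)
    push_cast
    refine ⟨((k:ℤ) + 1) * k - k * A - (k + 1) * B - ((k:ℤ) - 1) * D, ?_⟩
    linarith
  have hA1 : A ≤ 1 := by
    by_contra hgt
    have h1 : (k:ℤ) * (k + 2) * 2 ≤ k * (k + 2) * A :=
      mul_le_mul_of_nonneg_left (by exact_mod_cast (show 2 ≤ A by omega)) (by positivity)
    have h2 : ((k:ℤ) + 1) * (k + 2) * (k - 1) ≤ (k + 1) * (k + 2) * (2 * B) :=
      mul_le_mul_of_nonneg_left (by linarith [(show (k:ℤ) ≤ 2 * B + 1 by exact_mod_cast hBlb)])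
        (by positivity)
    have h3 : ((k:ℤ) + 1) * k * (k + 1) ≤ (k + 1) * k * (2 * D) :=
      mul_le_mul_of_nonneg_left (by linarith [(show (k:ℤ) + 2 ≤ 2 * D + 1 by exact_mod_cast hDlb)])
        (by positivity)
    nlinarith
  show Nat.card (S (k + 1)) = _
  rw [hA, show A = 1 by omega, mul_one]

theorem sq_eq_one {x : Q} (hx : orderOf x ∣ q) : x ^ 2 = 1 := by
  classical
  by_cases hx1 : x = 1
  · rw [hx1, one_pow]
  have h4 := h.four_le
  obtain ⟨c1, c2, c3⟩ := h.coprimes
  haveI : Fact (Nat.Prime 2) := ⟨Nat.prime_two⟩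
  obtain ⟨i, hi⟩ := exists_prime_orderOf_dvd_card' (G := Q) 2
    (by rw [h.card_eq]; exact dvd_mul_of_dvd_left h.two_dvd _)
  obtain ⟨a, ha, h2a, hcard⟩ := h.card_centralizer_of_prime Nat.prime_two hi
  have haq : a = q := by
    rcases ha with h' | h' | h'
    · exact h'
    all_goals subst h'; have := h.two_dvd; omega
  -- the conjugates of `i` exhaust the elements of order dividing `q`
  have h1 := (Subgroup.centralizer ({i} : Set Q)).card_mul_index
  rw [hcard, haq, h.card_eq] at h1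
  have h2 := Nat.eq_of_mul_eq_mul_left (show 0 < q by omega) h1
  let ψ : Q ⧸ Subgroup.centralizer ({i} : Set Q) → {x : Q | x ≠ 1 ∧ orderOf x ∣ q} :=
    Quotient.lift (fun g => ⟨g * i * g⁻¹, fun h' => by
        rw [mul_inv_eq_one, mul_eq_left] at h'
        simp [h'] at hi, by
        rw [← MulAut.conj_apply, (MulAut.conj g).orderOf_eq, hi]; exact h.two_dvd⟩)
      (fun u v huv => by
        have h3 : (u⁻¹ * v) * i = i * (u⁻¹ * v) :=
          Subgroup.mem_centralizer_singleton_iff.mp (QuotientGroup.leftRel_apply.mp huv)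
        apply Subtype.ext
        show u * i * u⁻¹ = v * i * v⁻¹
        calc u * i * u⁻¹ = u * (i * (u⁻¹ * v)) * v⁻¹ := by group
          _ = u * ((u⁻¹ * v) * i) * v⁻¹ := by rw [h3]
          _ = v * i * v⁻¹ := by group)
  have hψ : Function.Bijective ψ := by
    refine (Nat.bijective_iff_injective_and_card ψ).mpr ⟨?_, ?_⟩
    · intro u v
      refine Quotient.inductionOn₂ u v fun u v huv => Quotient.sound ?_
      refine QuotientGroup.leftRel_apply.mpr (Subgroup.mem_centralizer_singleton_iff.mpr ?_)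
      have h3 : u * i * u⁻¹ = v * i * v⁻¹ := congrArg Subtype.val huv
      calc u⁻¹ * v * i = u⁻¹ * (v * i * v⁻¹) * v := by group
        _ = u⁻¹ * (u * i * u⁻¹) * v := by rw [h3]
        _ = i * (u⁻¹ * v) := by group
    · rw [h.card_orderOf_dvd_q]
      exact h2
  obtain ⟨g, hg⟩ := hψ.2 ⟨x, hx1, hx⟩
  induction g using Quotient.inductionOn with
  | h g =>
    have h3 : g * i * g⁻¹ = x := congrArg Subtype.val hg
    rw [← h3, ← MulAut.conj_apply, ← map_pow, ← hi, pow_orderOf_eq_one, map_one]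

theorem nonempty_equiv {F : Type*} [Field F] [Fintype F] (hF : Fintype.card F = q) :
    Nonempty (Q ≃* Matrix.ProjectiveSpecialLinearGroup (Fin 2) F) := by
  classical
  obtain ⟨c1, c2, c3⟩ := h.coprimes
  have h4 := h.four_le
  haveI : Fact (Nat.Prime 2) := ⟨Nat.prime_two⟩
  let T : Sylow 2 Q := default
  have hTcard : Nat.card T = q := by
    have hne : (q - 1) * (q + 1) ≠ 0 := (Nat.mul_pos (by omega) (by omega)).ne'
    have hnd : ¬ 2 ∣ (q - 1) * (q + 1) := fun h' => by
      have := h.two_dvd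
      rcases Nat.prime_two.dvd_mul.mp h' with h'' | h'' <;> omega
    rw [T.card_eq_multiplicity, h.card_eq, Nat.factorization_mul (by omega) hne, Finsupp.add_apply,
      Nat.factorization_eq_zero_of_not_dvd hnd, add_zero, h.q_eq, Nat.prime_two.factorization_pow]
    simp
  have hT2 : ∀ x : (T : Subgroup Q), x ^ 2 = 1 := fun x => Subtype.ext (h.sq_eq_one (by
    rw [Subgroup.orderOf_coe]; exact hTcard ▸ orderOf_dvd_natCard x))
  have hnc : ¬ IsCyclic (T : Subgroup Q) := fun hcyc => by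
    obtain ⟨g, hg⟩ := hcyc.exists_generator
    have h1 : Nat.card T = orderOf g := (orderOf_eq_card_of_forall_mem_zpowers hg).symm
    have h2 : orderOf g ≤ 2 := Nat.le_of_dvd two_pos (orderOf_dvd_of_pow_eq_one (hT2 g))
    omega
  have hnn : ¬ (T : Subgroup Q).Normal := by
    intro hN
    haveI := hN
    haveI := Sylow.unique_of_normal T hN
    have hle : Nat.card {x : Q | x ≠ 1 ∧ orderOf x ∣ q} ≤ Nat.card T := by
      refine Nat.card_le_card_of_injective
        (fun x : {x : Q | x ≠ 1 ∧ orderOf x ∣ q} => (⟨x.1, ?_⟩ : (T : Subgroup Q)))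
        (fun a b hab => Subtype.ext (congrArg Subtype.val hab :))
      have hz : IsPGroup 2 (Subgroup.zpowers x.1) := by
        obtain ⟨m, -, hm⟩ := (Nat.dvd_prime_pow Nat.prime_two).mp
          (show orderOf x.1 ∣ 2 ^ f by rw [← h.q_eq]; exact x.2.2)
        exact IsPGroup.of_card (n := m) (by rw [Nat.card_zpowers, hm])
      obtain ⟨S, hS⟩ := hz.exists_le_sylow
      rw [← Subsingleton.elim S T]
      exact hS (Subgroup.mem_zpowers _)
    rw [h.card_orderOf_dvd_q, hTcard] at hle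
    have : 3 * (q + 1) ≤ (q - 1) * (q + 1) := Nat.mul_le_mul_right _ (by omega)
    omega
  obtain ⟨K, iK, fK, hK, ⟨φ⟩⟩ := Cfsg.Agent.S1230.result T hnc hnn fun t ht => by
    obtain ⟨a, ha, h2a, hcard⟩ := h.card_centralizer_of_prime Nat.prime_two ht
    have haq : a = q := by
      rcases ha with h' | h' | h'
      · exact h'
      all_goals subst h'; have := h.two_dvd; omega
    have hsq : ∀ c ∈ Subgroup.centralizer ({t} : Set Q), c ^ 2 = 1 := fun c hc => h.sq_eq_one (by
      rw [← haq, ← hcard]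
      exact (Subgroup.orderOf_coe (⟨c, hc⟩ : Subgroup.centralizer ({t} : Set Q))).dvd.trans
        (orderOf_dvd_natCard _))
    refine ⟨⟨⟨fun a b => ?_⟩⟩, hsq⟩
    apply Subtype.ext
    show (a : Q) * b = b * a
    have key : ∀ x ∈ Subgroup.centralizer ({t} : Set Q), x⁻¹ = x := fun x hx =>
      inv_eq_of_mul_eq_one_right (by rw [← sq]; exact hsq x hx)
    calc (a : Q) * b = ((a : Q) * b)⁻¹ := (key _ (mul_mem a.2 b.2)).symm
      _ = b * a := by rw [mul_inv_rev, key _ a.2, key _ b.2]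
  obtain ⟨ψ⟩ := PSL2Spec.nonempty_psl_equiv_of_card_eq (K := K) (F := F) (hK.trans (hTcard.trans hF.symm))
  exact ⟨φ.trans ψ⟩

end EvenHyp

/-- The hypothesis `EvenHyp` from the class sizes of `PSL₂(F)`. -/
theorem exists_evenHyp {F : Type*} [Field F] [Fintype F] (h2 : 2 ∣ Fintype.card F)
    (h4 : 4 ≤ Fintype.card F)
    (hsz : Set.range (fun g : G => (C g).index) =
      {1, Fintype.card F * (Fintype.card F - 1), Fintype.card F ^ 2 - 1,
        Fintype.card F * (Fintype.card F + 1)}) :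
    ∃ f, EvenHyp G f (Fintype.card F) := by
  obtain ⟨p, hp⟩ := CharP.exists F
  obtain ⟨f, hpp, hq⟩ := FiniteField.card F p
  have hp2 : p = 2 := ((Nat.prime_dvd_prime_iff_eq Nat.prime_two hpp).mp
    (Nat.prime_two.dvd_of_dvd_pow (hq ▸ h2))).symm
  refine ⟨f, hp2 ▸ hq, h4, fun m => ?_⟩
  rw [show (∃ x : G, (C x).index = m) ↔ m ∈ Set.range (fun g : G => (C g).index) from Iff.rfl, hsz]
  simp only [Set.mem_insert_iff, Set.mem_singleton_iff]
  rw [mul_comm (Fintype.card F - 1), ← Nat.sq_sub_sq, one_pow]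
  tauto

end CfsgLib.PSL2Sizes
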