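import Cfsg.Agent.Lib.PSL2Sizes.OddLoc
import Cfsg.Agent.Lib.PSL2Sizes.Even
import Cfsg.Agent.Lib.PSLTwoClasses.Basic
import Cfsg.Agent.Lib.SL2Trace.Tori
import Cfsg.Agent.Lib.Schur.Sylow
import Cfsg.Agent.S2475
import Cfsg.Agent.Lib.Linear.Simple

/-!
# The derived subgroup complements the centre
-/

set_option autoImplicit false
set_option linter.unusedSectionVars false
set_option linter.style.haveILetI false

open scoped commutatorElement

namespace CfsgLib.PSL2Sizes

open Matrix (ProjectiveSpecialLinearGroup SpecialLinearGroup)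

variable {G : Type*} [Group G] [Finite G]

local notation "Q" => G ⧸ Subgroup.center G
local notation "π" => QuotientGroup.mk' (Subgroup.center G)

theorem commutative_of_map_cyclic (S : Subgroup G) (h : IsCyclic (S.map π)) :
    ∀ x ∈ S, ∀ y ∈ S, x * y = y * x := by
  intro x hx y hy
  obtain ⟨⟨c, hc⟩, hgen⟩ := h.exists_generator
  obtain ⟨c₀, hc₀, rfl⟩ := hc
  have key : ∀ z ∈ S, ∃ i : ℤ, ∃ w ∈ Subgroup.center G, z = c₀ ^ i * w := by
    intro z hz
    obtain ⟨i, hi⟩ := Subgroup.mem_zpowers_iff.mp (hgen ⟨π z, z, hz, rfl⟩)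
    refine ⟨i, (c₀ ^ i)⁻¹ * z, ?_, by group⟩
    refine (QuotientGroup.eq_one_iff _).mp ?_
    show π ((c₀ ^ i)⁻¹ * z) = 1
    have hi' : π c₀ ^ i = π z := congrArg Subtype.val hi
    rw [map_mul, map_inv, map_zpow, hi', inv_mul_cancel]
  obtain ⟨i, v, hv, rfl⟩ := key x hx
  obtain ⟨j, w, hw, rfl⟩ := key y hy
  exact ((((Commute.refl c₀).zpow_zpow i j).mul_right
    (show Commute (c₀ ^ i) w from Subgroup.mem_center_iff.mp hw _)).mul_left
    (show Commute v (c₀ ^ j * w) from (Subgroup.mem_center_iff.mp hv _).symm)).eq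

theorem commutative_of_full (S : Subgroup G) {r : ℕ} (hS : IsPGroup r S)
    (hab : ∀ x ∈ S.map π, ∀ y ∈ S.map π, x * y = y * x)
    (hfull : ∀ u : G, u ∉ Subgroup.center G → (∃ i, u ^ r ^ i = 1) →
      Subgroup.centralizer ({π u} : Set Q) = (C u).map π) :
    ∀ x ∈ S, ∀ y ∈ S, x * y = y * x := by
  intro x hx y hy
  by_cases hxz : x ∈ Subgroup.center G
  · exact (Subgroup.mem_center_iff.mp hxz y).symm
  obtain ⟨i, hi⟩ := hS ⟨x, hx⟩
  exact (commute_of_map (hfull x hxz ⟨i, congrArg Subtype.val hi⟩)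
    (hab _ ⟨x, hx, rfl⟩ _ ⟨y, hy, rfl⟩)).eq

/-- If an element carries the full `r`-part of the order, the Sylow `r`-subgroups are cyclic. -/
theorem isCyclic_sylow_of_element {M : Type*} [Group M] [Finite M] {r : ℕ} [Fact r.Prime] {g : M}
    (hg : r ^ (Nat.card M).factorization r ∣ orderOf g) (P : Sylow r M) : IsCyclic P := by
  have hr : r.Prime := Fact.out
  set k := (Nat.card M).factorization r
  have hd : orderOf g / r ^ k ∣ orderOf g := Nat.div_dvd_of_dvd hg
  have hne : orderOf g / r ^ k ≠ 0 :=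
    (Nat.div_pos (Nat.le_of_dvd (orderOf_pos g) hg) (pow_pos hr.pos _)).ne'
  have hcard : Nat.card (Subgroup.zpowers (g ^ (orderOf g / r ^ k))) = r ^ k := by
    rw [Nat.card_zpowers, orderOf_pow_of_dvd hne hd, Nat.div_div_self hg (orderOf_pos g).ne']
  exact (Sylow.equiv (Sylow.ofCard _ hcard) P).isCyclic.mp (inferInstanceAs
    (IsCyclic (Subgroup.zpowers (g ^ (orderOf g / r ^ k)))))

theorem center_inf_commutator_eq_bot
    (hab : ∀ r : ℕ, r.Prime → r ∣ Nat.card Q →
      (∃ S : Sylow r G, ∀ x ∈ _root_.commutator (S : Subgroup G), (x : G) ∈ Subgroup.center G → x = 1)) :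
    Subgroup.center G ⊓ commutator G = ⊥ := by
  by_contra hne
  obtain ⟨r, hr, hrd⟩ := Nat.exists_prime_and_dvd
    (fun h1 => hne ((Subgroup.card_eq_one).mp h1) :
      Nat.card (Subgroup.center G ⊓ commutator G : Subgroup G) ≠ 1)
  haveI := Fact.mk hr
  obtain ⟨z, hz⟩ := exists_prime_orderOf_dvd_card'
    (G := (Subgroup.center G ⊓ commutator G : Subgroup G)) r hrd
  have hzc : (z : G) ∈ Subgroup.center G := z.2.1
  have hzd : (z : G) ∈ commutator G := z.2.2
  have hz1 : (z : G) ^ r ^ 1 = 1 := by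
    rw [pow_one, ← hz, ← Subgroup.orderOf_coe, pow_orderOf_eq_one]
  have hzne : (z : G) ≠ 1 := fun h' => hr.one_lt.ne (by
    rw [← hz, ← Subgroup.orderOf_coe, h', orderOf_one])
  by_cases hrq : r ∣ Nat.card Q
  · obtain ⟨S, hS⟩ := hab r hr hrq
    obtain ⟨y, hy, hyz⟩ := Subgroup.mem_map.mp (SchurSylow.center_inf_commutator_inf_sylow_le S hzc hzd
      (SchurSylow.center_pElement_mem_sylow S hzc hz1))
    have hyz' : (y : G) = z := hyz
    exact hzne (by rw [← hyz', hS y hy (hyz' ▸ hzc)]; rfl)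
  · let S : Sylow r G := default
    obtain ⟨y, hy, hyz⟩ := Subgroup.mem_map.mp (SchurSylow.center_inf_commutator_inf_sylow_le S hzc hzd
      (SchurSylow.center_pElement_mem_sylow S hzc hz1))
    have hSZ : ∀ x ∈ (S : Subgroup G), x ∈ Subgroup.center G := by
      intro x hx
      obtain ⟨i, hi⟩ := S.2 ⟨x, hx⟩
      have h1 : (π x) ^ r ^ i = 1 := by
        rw [← map_pow, show x ^ r ^ i = 1 from congrArg Subtype.val hi, map_one]
      exact (QuotientGroup.eq_one_iff x).mp (orderOf_eq_one_iff.mp (Nat.eq_one_of_dvd_coprimes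
        ((hr.coprime_iff_not_dvd.mpr hrq).pow_left i) (orderOf_dvd_of_pow_eq_one h1)
        (orderOf_dvd_natCard (π x))))
    rw [SchurSylow.commutator_eq_bot_of_comm (fun a b => Subtype.ext
      (Subgroup.mem_center_iff.mp (hSZ b b.2) a)), Subgroup.mem_bot] at hy
    exact hzne (by rw [← hyz, hy]; rfl)

theorem commutatorElement_mul_central {x y w v : G} (hw : w ∈ Subgroup.center G)
    (hv : v ∈ Subgroup.center G) : ⁅x * w, y * v⁆ = ⁅x, y⁆ := by
  calc ⁅x * w, y * v⁆ = x * (w * (y * v) * w⁻¹) * x⁻¹ * (y * v)⁻¹ := by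
        rw [commutatorElement_def]; group
    _ = x * (y * v) * x⁻¹ * (y * v)⁻¹ := by
        rw [← Subgroup.mem_center_iff.mp hw (y * v), mul_inv_cancel_right]
    _ = x * y * (v * x⁻¹ * v⁻¹) * y⁻¹ := by group
    _ = ⁅x, y⁆ := by
        rw [← Subgroup.mem_center_iff.mp hv x⁻¹, mul_inv_cancel_right, commutatorElement_def]

theorem exists_product_of_equiv {F : Type*} [Field F] [Fintype F] (h4 : 4 ≤ Fintype.card F)
    (φ : Q ≃* ProjectiveSpecialLinearGroup (Fin 2) F)
    (hbot : Subgroup.center G ⊓ commutator G = ⊥) :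
    ∃ N A : Subgroup G, N.Normal ∧ A ≤ Subgroup.center G ∧ N ⊓ A = ⊥ ∧ N ⊔ A = ⊤ ∧
      Nonempty (N ≃* ProjectiveSpecialLinearGroup (Fin 2) F) := by
  haveI : IsSimpleGroup (ProjectiveSpecialLinearGroup (Fin 2) F) :=
    CfsgLib.Linear.isSimpleGroup_PSL_fin 2 le_rfl fun _ ↦ by rwa [Nat.card_eq_fintype_card]
  haveI : IsSimpleGroup Q := φ.isSimpleGroup
  have hsurj : ((commutator G).map π) = ⊤ := by
    rw [commutator_def, Subgroup.map_commutator,
      Subgroup.map_top_of_surjective _ (QuotientGroup.mk'_surjective _), ← commutator_def]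
    refine (IsSimpleGroup.eq_bot_or_eq_top_of_normal
      (commutator Q) inferInstance).resolve_left fun hb => ?_
    -- a commutative quotient would make `G` nilpotent of class two with trivial derived subgroup
    have hle : commutator G ≤ Subgroup.center G := by
      have h1 : (commutator G).map π = ⊥ := by
        rw [commutator_def, Subgroup.map_commutator,
          Subgroup.map_top_of_surjective _ (QuotientGroup.mk'_surjective _), ← commutator_def, hb]
      rw [Subgroup.map_eq_bot_iff, QuotientGroup.ker_mk'] at h1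
      exact h1
    have hcomm : ∀ a b : G, a * b = b * a := by
      intro a b
      have h2 : ⁅a, b⁆ ∈ Subgroup.center G ⊓ commutator G :=
        ⟨hle (Subgroup.commutator_mem_commutator (Subgroup.mem_top a) (Subgroup.mem_top b)),
          Subgroup.commutator_mem_commutator (Subgroup.mem_top a) (Subgroup.mem_top b)⟩
      rw [hbot, Subgroup.mem_bot] at h2
      exact commutatorElement_eq_one_iff_mul_comm.mp h2
    have htop : Subgroup.center G = ⊤ := by
      rw [Subgroup.eq_top_iff']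
      exact fun a => Subgroup.mem_center_iff.mpr fun b => hcomm b a
    obtain ⟨y, hy⟩ := exists_ne (1 : Q)
    obtain ⟨g, rfl⟩ := QuotientGroup.mk'_surjective _ y
    exact hy ((QuotientGroup.eq_one_iff g).mpr (htop ▸ Subgroup.mem_top g))
  refine ⟨commutator G, Subgroup.center G, inferInstance, le_rfl, by rw [inf_comm, hbot], ?_, ?_⟩
  · have h1 := congrArg (Subgroup.comap π) hsurj
    rwa [Subgroup.comap_map_eq, QuotientGroup.ker_mk', Subgroup.comap_top] at h1
  · refine ⟨(MulEquiv.ofBijective ((π).comp (commutator G).subtype) ⟨?_, ?_⟩).trans φ⟩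
    · rw [← MonoidHom.ker_eq_bot_iff, Subgroup.eq_bot_iff_forall]
      intro x hx
      have h1 : (x : G) ∈ Subgroup.center G := (QuotientGroup.eq_one_iff _).mp hx
      have h2 : (x : G) ∈ Subgroup.center G ⊓ commutator G := ⟨h1, x.2⟩
      rw [hbot, Subgroup.mem_bot] at h2
      exact Subtype.ext h2
    · intro y
      have h1 : y ∈ (commutator G).map π := hsurj ▸ Subgroup.mem_top y
      obtain ⟨x, hx, rfl⟩ := h1
      exact ⟨⟨x, hx⟩, rfl⟩

section PSL

variable {F : Type*} [Field F] [Fintype F] {p : ℕ} [Fact p.Prime] [CharP F p]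

theorem exists_inverter_psl {k : ℕ} (hp2 : p ≠ 2) (hk : 2 ≤ k)
    {x : ProjectiveSpecialLinearGroup (Fin 2) F} (hx : orderOf x = 2 ^ k) :
    ∃ s, s * x * s⁻¹ = x⁻¹ := by
  obtain ⟨M, rfl⟩ := QuotientGroup.mk_surjective x
  have hM : (M : Matrix (Fin 2) (Fin 2) F).trace ^ 2 ≠ 4 := by
    intro h
    have h1 : (QuotientGroup.mk' (Subgroup.center _) M) ^ p = 1 := by
      rw [← map_pow]
      exact (QuotientGroup.eq_one_iff _).mpr (SL2Trace.pow_char_mem_center p M h)
    have h2 : 2 ^ k ∣ p := hx ▸ orderOf_dvd_of_pow_eq_one h1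
    exact hp2 ((Nat.prime_dvd_prime_iff_eq Nat.prime_two Fact.out).mp
      ((dvd_pow_self 2 (by omega)).trans h2)).symm
  obtain ⟨U, hU⟩ := SL2Trace.isConj_of_trace_eq M M⁻¹ hM (SL2Trace.trace_inv M)
  exact ⟨QuotientGroup.mk U, by
    rw [← QuotientGroup.mk_mul, ← QuotientGroup.mk_inv, ← QuotientGroup.mk_mul, ← hU,
      QuotientGroup.mk_inv]⟩

/-- In `PSL₂(q)`, `q` odd, an element of class size half of `q (q ± 1)` is an involution. -/
theorem sq_eq_one_of_index (hodd : ¬ 2 ∣ Fintype.card F) (h7 : 7 ≤ Fintype.card F)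
    {x : ProjectiveSpecialLinearGroup (Fin 2) F} {e o : ℕ} (hsum : e + o = Fintype.card F)
    (hprod : 4 * (e * o) + 1 = Fintype.card F ^ 2) (heven : 2 ∣ e)
    (hx : (Subgroup.centralizer ({x} : Set (ProjectiveSpecialLinearGroup (Fin 2) F))).index =
      Fintype.card F * o) : x ^ 2 = 1 := by
  set q := Fintype.card F
  obtain ⟨M, rfl⟩ := QuotientGroup.mk_surjective x
  have h20 : (2 : F) ≠ 0 := fun e' => hodd (PSLTwoClasses.two_eq_zero_iff.1 e')
  by_cases hc : M ∈ Subgroup.center (SpecialLinearGroup (Fin 2) F)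
  · rw [show (QuotientGroup.mk M : ProjectiveSpecialLinearGroup (Fin 2) F) = 1 from
      (QuotientGroup.eq_one_iff _).mpr hc, one_pow]
  by_cases h0 : PSLTwoClasses.tr M = 0
  · have h1 : M * M = -1 := by
      apply Subtype.ext
      show (M : Matrix (Fin 2) (Fin 2) F) * (M : Matrix (Fin 2) (Fin 2) F) = _
      rw [SL2Trace.mul_self_eq, show (M : Matrix (Fin 2) (Fin 2) F).trace = 0 from h0, zero_smul,
        zero_sub, SpecialLinearGroup.coe_neg]
      rfl
    show (QuotientGroup.mk' (Subgroup.center _) M) ^ 2 = 1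
    rw [← map_pow, sq, h1]
    exact (QuotientGroup.eq_one_iff _).mpr PSLTwoClasses.neg_mem_center
  exfalso
  have hidx : (Subgroup.centralizer ({M} : Set (SpecialLinearGroup (Fin 2) F))).index = q * o :=
    (PSLTwoClasses.index_eq_of_trace (Or.inl h0)).symm.trans hx
  have he : 0 < e := by
    rcases Nat.eq_zero_or_pos e with rfl | he
    · have : 7 ^ 2 ≤ q ^ 2 := Nat.pow_le_pow_left h7 2
      omega
    · exact he
  have ho : 0 < o := by
    rcases Nat.eq_zero_or_pos o with rfl | ho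
    · have : 7 ^ 2 ≤ q ^ 2 := Nat.pow_le_pow_left h7 2
      omega
    · exact ho
  by_cases ht : PSLTwoClasses.tr M ^ 2 = 4
  · have hm := PSLTwoClasses.card_mul_index M
    rw [PSLTwoClasses.card_centralizer_of_unipotent ht hc, (PSLTwoClasses.card_sq_eq_one F).2 h20,
      hidx] at hm
    have h2 : 2 * (q * o) = (q - 1) * (q + 1) :=
      Nat.eq_of_mul_eq_mul_left (show 0 < q by omega) (by rw [← hm]; ring)
    have h3 : q ∣ (q - 1) * (q + 1) := ⟨2 * o, by rw [← h2]; ring⟩
    have h4 : q ∣ (q - 1) * (q + 1) + 1 := ⟨q, by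
      obtain ⟨j, hj⟩ : ∃ j, q = j + 1 := ⟨q - 1, by omega⟩
      rw [hj, Nat.add_sub_cancel]; ring⟩
    have := Nat.dvd_one.mp ((Nat.dvd_add_right h3).mp h4)
    omega
  · have h8 : o * 2 = q + 1 ∨ o * 2 = q - 1 := by
      have h5 : (q : ℤ) = e + o := by exact_mod_cast hsum.symm
      have h6 : (4 : ℤ) * (e * o) + 1 = q ^ 2 := by exact_mod_cast hprod
      have h7' : ((e : ℤ) - o - 1) * (e - o + 1) = 0 := by rw [h5] at h6; linarith
      rcases mul_eq_zero.mp h7' with h' | h' <;> omega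
    obtain ⟨hr1, hr2⟩ := PSLTwoClasses.index_regular ht
    by_cases hu : ∃ u : F, u ^ 2 - PSLTwoClasses.tr M * u + 1 = 0
    · have := Nat.eq_of_mul_eq_mul_left (show 0 < q by omega) ((hr1 hu).symm.trans hidx)
      omega
    · have := Nat.eq_of_mul_eq_mul_left (show 0 < q by omega) ((hr2 hu).symm.trans hidx)
      omega

end PSL

namespace OddHyp

variable {p f q e o : ℕ} (h : OddHyp G p f q e o)
include h

theorem commutator_sylow_two {F : Type*} [Field F] [Fintype F] (hF : Fintype.card F = q)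
    (φ : Q ≃* ProjectiveSpecialLinearGroup (Fin 2) F) {g₀ : Q} (hg₀ : orderOf g₀ = e) :
    ∃ S : Sylow 2 G, ∀ x ∈ _root_.commutator (S : Subgroup G),
      (x : G) ∈ Subgroup.center G → x = 1 := by
  classical
  haveI : Fact (Nat.Prime 2) := ⟨Nat.prime_two⟩
  haveI := Fact.mk h.prime
  haveI : CharP F p := by
    obtain ⟨p', hp'⟩ := CharP.exists F
    haveI := hp'
    obtain ⟨f', hp'p, hf'⟩ := FiniteField.card F p'
    have h1 : p ∣ p' ^ (f' : ℕ) := hf' ▸ hF.symm ▸ h.p_dvd_q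
    rwa [← (Nat.prime_dvd_prime_iff_eq h.prime hp'p).mp (h.prime.dvd_of_dvd_pow h1)] at hp'
  obtain ⟨hqe, hqo, heo, h2q, h2o⟩ := h.coprimes
  obtain ⟨he, ho⟩ := h.bounds
  set k := e.factorization 2
  have hk : 1 ≤ k := Nat.prime_two.factorization_pos_of_dvd (by omega) h.even
  have hkQ : (Nat.card Q).factorization 2 = k + 1 := by
    rw [h.card_eq, show 2 * q * e * o = 2 * (e * (q * o)) by ring,
      Nat.factorization_mul two_ne_zero (Nat.mul_ne_zero (by omega) (Nat.mul_ne_zero h.q_pos.ne'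
        (by omega))), Nat.factorization_mul (by omega) (Nat.mul_ne_zero h.q_pos.ne' (by omega)),
      Finsupp.add_apply, Finsupp.add_apply, Nat.prime_two.factorization_self,
      Nat.factorization_eq_zero_of_not_dvd (Nat.prime_two.coprime_iff_not_dvd.mp (h2q.mul_right h2o))]
    omega
  -- the rotation
  set ab : Q := g₀ ^ (e / 2 ^ k)
  have hab : orderOf ab = 2 ^ k := by
    have hd : 2 ^ k ∣ e := Nat.ordProj_dvd e 2
    rw [orderOf_pow_of_dvd (Nat.div_pos (Nat.le_of_dvd (by omega) hd) (pow_pos two_pos k)).ne'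
      (hg₀.symm ▸ Nat.div_dvd_of_dvd hd), hg₀, Nat.div_div_self hd (by omega)]
  obtain ⟨T, hT⟩ : ∃ T : Sylow 2 Q, ab ∈ (T : Subgroup Q) := by
    have hz : IsPGroup 2 (Subgroup.zpowers ab) := IsPGroup.of_card (n := k) (by rw [Nat.card_zpowers, hab])
    obtain ⟨T, hT⟩ := hz.exists_le_sylow
    exact ⟨T, hT (Subgroup.mem_zpowers _)⟩
  -- an element of `T` inverting the rotation
  obtain ⟨T, hT, sb, hsb, hsna, hinv⟩ : ∃ T : Sylow 2 Q, ab ∈ (T : Subgroup Q) ∧
      ∃ sb ∈ (T : Subgroup Q), sb ∉ Subgroup.zpowers ab ∧ sb * ab * sb⁻¹ = ab⁻¹ := by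
    by_cases hk2 : 2 ≤ k
    · obtain ⟨s₀, hs₀⟩ := exists_inverter_psl (p := p) h.p_ne_two hk2 (x := φ ab)
        (by rw [φ.orderOf_eq, hab])
      have hs : φ.symm s₀ * ab * (φ.symm s₀)⁻¹ = ab⁻¹ := by
        apply φ.injective
        rw [map_mul, map_mul, map_inv, map_inv, φ.apply_symm_apply, hs₀]
      set s₁ := φ.symm s₀
      set m := orderOf s₁ / 2 ^ (orderOf s₁).factorization 2
      have hm : Odd m := Nat.not_even_iff_odd.mp fun hev =>
        Nat.not_dvd_ordCompl Nat.prime_two (orderOf_pos s₁).ne' hev.two_dvd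
      have hpow : ∀ j : ℕ, s₁ ^ j * ab * (s₁ ^ j)⁻¹ = ab ^ ((-1 : ℤ) ^ j) := by
        intro j
        induction j with
        | zero => simp
        | succ j ih =>
          calc s₁ ^ (j + 1) * ab * (s₁ ^ (j + 1))⁻¹ = s₁ * (s₁ ^ j * ab * (s₁ ^ j)⁻¹) * s₁⁻¹ := by
                rw [pow_succ']; group
            _ = (s₁ * ab * s₁⁻¹) ^ ((-1 : ℤ) ^ j) := by
                rw [ih, ← MulAut.conj_apply, map_zpow, MulAut.conj_apply]
            _ = _ := by rw [hs, inv_zpow', pow_succ]; ring_nf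
      have hinv : s₁ ^ m * ab * (s₁ ^ m)⁻¹ = ab⁻¹ := by rw [hpow, hm.neg_one_pow, zpow_neg_one]
      have hp2 : (s₁ ^ m) ^ 2 ^ (orderOf s₁).factorization 2 = 1 := by
        rw [← pow_mul, Nat.div_mul_cancel (Nat.ordProj_dvd _ _), pow_orderOf_eq_one]
      have hnorm : s₁ ^ m ∈ Subgroup.normalizer ((Subgroup.zpowers ab : Subgroup Q) : Set Q) := by
        have hmap : (Subgroup.zpowers ab).map (MulAut.conj (s₁ ^ m)).toMonoidHom = Subgroup.zpowers ab := by
          rw [MonoidHom.map_zpowers]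
          show Subgroup.zpowers (s₁ ^ m * ab * (s₁ ^ m)⁻¹) = _
          rw [hinv, Subgroup.zpowers_inv]
        rw [Subgroup.mem_normalizer_iff]
        refine fun w => ⟨fun hw => hmap.le ⟨w, hw, rfl⟩, fun hw => ?_⟩
        obtain ⟨v, hv, hve⟩ := hmap.ge hw
        have hve' : s₁ ^ m * v * (s₁ ^ m)⁻¹ = s₁ ^ m * w * (s₁ ^ m)⁻¹ := hve
        rwa [← mul_left_cancel (mul_right_cancel hve')]
      have hz : IsPGroup 2 (Subgroup.zpowers (s₁ ^ m)) := by
        obtain ⟨l, -, hl⟩ := (Nat.dvd_prime_pow Nat.prime_two).mp (orderOf_dvd_of_pow_eq_one hp2)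
        exact IsPGroup.of_card (n := l) (by rw [Nat.card_zpowers, hl])
      have hsup : IsPGroup 2 (Subgroup.zpowers (s₁ ^ m) ⊔ Subgroup.zpowers ab : Subgroup Q) :=
        IsPGroup.to_sup_of_normal_right' hz
          (IsPGroup.of_card (n := k) (by rw [Nat.card_zpowers, hab]))
          (Subgroup.zpowers_le.mpr hnorm)
      obtain ⟨T', hT'⟩ := hsup.exists_le_sylow
      refine ⟨T', hT' (Subgroup.mem_sup_right (Subgroup.mem_zpowers _)), s₁ ^ m,
        hT' (Subgroup.mem_sup_left (Subgroup.mem_zpowers _)), fun hmem => ?_, hinv⟩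
      obtain ⟨i, hi⟩ := Subgroup.mem_zpowers_iff.mp hmem
      rw [← hi, (Commute.self_zpow ab i).symm.eq, mul_inv_cancel_right] at hinv
      have h2 : ab ^ 2 = 1 := by
        rw [sq]; nth_rewrite 2 [hinv]; exact mul_inv_cancel _
      have h3 := Nat.le_of_dvd two_pos (hab ▸ orderOf_dvd_of_pow_eq_one h2)
      have : 2 ^ 2 ≤ 2 ^ k := Nat.pow_le_pow_right two_pos hk2
      omega
    · have hk1 : k = 1 := by omega
      have hTcard : Nat.card T = 2 ^ 2 := by
        rw [T.card_eq_multiplicity, hkQ, hk1]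
      obtain ⟨sb, hsb, hsna⟩ := SetLike.exists_of_lt
        (lt_of_le_of_ne (Subgroup.zpowers_le.mpr hT) fun heq => by
          rw [← heq, Nat.card_zpowers, hab, hk1] at hTcard; norm_num at hTcard :
          Subgroup.zpowers ab < (T : Subgroup Q))
      refine ⟨T, hT, sb, hsb, hsna, ?_⟩
      have hTab := IsPGroup.commutative_of_card_eq_prime_sq hTcard
      have hc : sb * ab = ab * sb :=
        congrArg Subtype.val (hTab (⟨sb, hsb⟩ : (T : Subgroup Q)) ⟨ab, hT⟩)
      rw [hc, mul_inv_cancel_right]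
      exact eq_inv_of_mul_eq_one_right (by rw [← sq, ← pow_orderOf_eq_one ab, hab, hk1, pow_one])
  -- the structure of `T`
  have hTcard : Nat.card T = 2 ^ (k + 1) := by rw [T.card_eq_multiplicity, hkQ]
  have hcases : ∀ t ∈ (T : Subgroup Q), t ∈ Subgroup.zpowers ab ∨ t * sb⁻¹ ∈ Subgroup.zpowers ab := by
    intro t ht
    have h2 : ((Subgroup.zpowers ab).subgroupOf (T : Subgroup Q)).index = 2 := by
      have h1 := ((Subgroup.zpowers ab).subgroupOf (T : Subgroup Q)).card_mul_index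
      rw [Nat.card_congr (Subgroup.subgroupOfEquivOfLe (Subgroup.zpowers_le.mpr hT)).toEquiv,
        Nat.card_zpowers, hab, hTcard, pow_succ] at h1
      exact Nat.eq_of_mul_eq_mul_left (pow_pos two_pos k) h1
    rcases em (t ∈ Subgroup.zpowers ab) with h' | h'
    · exact Or.inl h'
    · refine Or.inr ?_
      have h3 := (Subgroup.mul_mem_iff_of_index_two h2
        (a := (⟨t, ht⟩ : (T : Subgroup Q))) (b := ⟨sb, hsb⟩⁻¹)).mpr
      simp only [Subgroup.mem_subgroupOf, Subgroup.coe_mul, Subgroup.coe_inv, inv_mem_iff] at h3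
      exact h3 (iff_of_false h' hsna)
  -- lift to `G`
  obtain ⟨S, hS⟩ := Sylow.mapSurjective_surjective (QuotientGroup.mk'_surjective _) 2 T
  have hmapS : (S : Subgroup G).map π = (T : Subgroup Q) := by
    rw [← hS]; exact (Sylow.coe_mapSurjective _ S).symm
  obtain ⟨a, ha, hπa⟩ : ∃ a ∈ (S : Subgroup G), π a = ab := hmapS.ge hT
  obtain ⟨s, hs, hπs⟩ : ∃ s ∈ (S : Subgroup G), π s = sb := hmapS.ge hsb
  obtain ⟨z₀, hz₀, hsa⟩ : ∃ z₀ ∈ Subgroup.center G, s * a⁻¹ * s⁻¹ = a * z₀ := by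
    refine ⟨a⁻¹ * (s * a⁻¹ * s⁻¹), (QuotientGroup.eq_one_iff _).mp ?_, by group⟩
    show π (a⁻¹ * (s * a⁻¹ * s⁻¹)) = 1
    simp only [map_mul, map_inv, hπa, hπs]
    rw [show sb * ab⁻¹ * sb⁻¹ = (sb * ab * sb⁻¹)⁻¹ by group, hinv, inv_inv, inv_mul_cancel]
  set c := a * (a * z₀) with hc
  have hcz : ∀ g, g * z₀ = z₀ * g := fun g => Subgroup.mem_center_iff.mp hz₀ g
  have hca : Commute c a :=
    ((Commute.refl a).mul_left ((Commute.refl a).mul_left (hcz a).symm))
  have hcs : s * c * s⁻¹ = c⁻¹ := by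
    have h1 : s * a * s⁻¹ = (a * z₀)⁻¹ := by rw [← hsa]; group
    have h2 : s * z₀ * s⁻¹ = z₀ := by rw [hcz s, mul_inv_cancel_right]
    calc s * c * s⁻¹ = s * a * s⁻¹ * (s * a * s⁻¹) * (s * z₀ * s⁻¹) := by rw [hc]; group
      _ = (a * z₀)⁻¹ * (a * z₀)⁻¹ * z₀ := by rw [h1, h2]
      _ = c⁻¹ := by
        rw [hc, mul_inv_rev, mul_inv_rev, mul_assoc (z₀⁻¹ * a⁻¹), mul_assoc z₀⁻¹ a⁻¹ z₀, hcz a⁻¹,
          ← mul_assoc z₀⁻¹ z₀, inv_mul_cancel, one_mul, mul_inv_rev]
  have hdecomp : ∀ x ∈ (S : Subgroup G),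
      (∃ i : ℤ, ∃ w ∈ Subgroup.center G, x = a ^ i * w) ∨
      (∃ i : ℤ, ∃ w ∈ Subgroup.center G, x = a ^ i * s * w) := by
    intro x hx
    have hx' : π x ∈ (T : Subgroup Q) := hmapS.le ⟨x, hx, rfl⟩
    rcases hcases _ hx' with h' | h' <;> obtain ⟨i, hi⟩ := Subgroup.mem_zpowers_iff.mp h'
    · refine Or.inl ⟨i, (a ^ i)⁻¹ * x, (QuotientGroup.eq_one_iff _).mp ?_, by group⟩
      show π ((a ^ i)⁻¹ * x) = 1
      rw [map_mul, map_inv, map_zpow, hπa, hi, inv_mul_cancel]
    · refine Or.inr ⟨i, (a ^ i * s)⁻¹ * x, (QuotientGroup.eq_one_iff _).mp ?_, by group⟩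
      show π ((a ^ i * s)⁻¹ * x) = 1
      rw [map_mul, map_inv, map_mul, map_zpow, hπa, hπs, hi, inv_mul_cancel_right, inv_mul_cancel]
  -- the involution with large centraliser
  obtain ⟨u₀, hu₀, hidx₀⟩ := h.exists_size (Or.inr (Or.inl rfl))
  obtain ⟨r, hr, j, hj, i₀, hi₀⟩ := exists_primary hu₀
  have hidx1 : (C (u₀ ^ j)).index = q * o := by
    have hd : (C (u₀ ^ j)).index ∣ q * o := hidx₀ ▸ Subgroup.index_dvd_of_le (C_le_of_pow u₀ j)
    rcases h.size_cases hj with h' | h' | h' | h'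
    · rw [h'] at hd
      have := (Nat.coprime_mul_iff_right.mpr ⟨h2q, h2o⟩).eq_one_of_dvd ((dvd_mul_right 2 _).trans hd)
      omega
    · exact h'
    all_goals
      rw [h'] at hd
      have := (Nat.coprime_mul_iff_right.mpr ⟨h2q, h2o⟩).eq_one_of_dvd ((dvd_mul_right 2 _).trans hd)
      omega
  set u := u₀ ^ j
  have hcbu : cb u = 2 * e := by
    have h1 := cb_mul_index u
    rw [hidx1, h.card_eq] at h1
    exact Nat.eq_of_mul_eq_mul_right (show 0 < q * o from Nat.mul_pos h.q_pos (by omega)) (by rw [h1]; ring)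
  -- its image is an involution
  have hu2 : (π u) ^ 2 = 1 := by
    obtain ⟨j', hj'⟩ := exists_card_centralizer hr hi₀
    have hdvd : cb u * r ^ j' ∣ 2 * q * e * o := h.card_eq ▸ hj' ▸ Subgroup.card_subgroup_dvd_card _
    have hr2e : r ∣ 2 * e := hcbu ▸ dvd_cb hj hr hi₀
    rw [hcbu, show 2 * q * e * o = 2 * e * (q * o) by ring] at hdvd
    have h3 : r ^ j' ∣ q * o := Nat.dvd_of_mul_dvd_mul_left (by omega) hdvd
    have h4 : r ^ j' = 1 := (((h2q.symm.mul_right hqe).mul_left (h2o.symm.mul_right heo.symm)).symm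
      |>.coprime_dvd_left hr2e |>.pow_left j').eq_one_of_dvd h3
    rw [hcbu, h4, mul_one] at hj'
    have h5 : (Subgroup.centralizer ({φ (π u)} : Set (ProjectiveSpecialLinearGroup (Fin 2) F))) =
        (Subgroup.centralizer ({π u} : Set Q)).map φ.toMonoidHom := by
      ext z
      rw [Subgroup.mem_map_equiv, Subgroup.mem_centralizer_singleton_iff,
        Subgroup.mem_centralizer_singleton_iff]
      constructor
      · intro hz; apply φ.injective; rw [map_mul, map_mul, φ.apply_symm_apply]; exact hz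
      · intro hz
        have := congrArg φ hz
        rwa [map_mul, map_mul, φ.apply_symm_apply] at this
    have h6 := (Subgroup.centralizer ({π u} : Set Q)).card_mul_index
    rw [hj', h.card_eq] at h6
    have h7 : (Subgroup.centralizer ({π u} : Set Q)).index = q * o :=
      Nat.eq_of_mul_eq_mul_left (show 0 < 2 * e by omega) (by rw [h6]; ring)
    have h8 := sq_eq_one_of_index (x := φ (π u))
      (by rw [hF]; exact Nat.prime_two.coprime_iff_not_dvd.mp h2q) (by rw [hF]; exact h.seven_le)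
      (by rw [hF]; exact h.sum) (by rw [hF]; exact h.prod) h.even
      (by rw [h5, Subgroup.index_map_of_bijective φ.bijective, h7, hF])
    apply φ.injective
    rw [map_pow, h8, map_one]
  have hr2 : 2 = r := prime_eq_of_pow hj Nat.prime_two hr (i := 1) (j := i₀)
    ((QuotientGroup.eq_one_iff _).mp (by
      show π (u ^ 2 ^ 1) = 1
      rw [map_pow, pow_one, hu2])) hi₀
  subst hr2
  -- a conjugate of `u` centralises `S`
  obtain ⟨S₁, hS₁⟩ : ∃ S₁ : Sylow 2 G, (S₁ : Subgroup G) ≤ C u := by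
    let P : Sylow 2 (C u) := default
    have hcard : Nat.card ((P : Subgroup (C u)).map (C u).subtype) =
        2 ^ (Nat.card G).factorization 2 := by
      rw [Subgroup.card_map_of_injective (Subgroup.subtype_injective _), P.card_eq_multiplicity,
        ← Subgroup.card_mul_index (C u),
        Nat.factorization_mul Nat.card_pos.ne' Subgroup.index_ne_zero_of_finite, Finsupp.add_apply,
        hidx1, Nat.factorization_eq_zero_of_not_dvd
          (Nat.prime_two.coprime_iff_not_dvd.mp (h2q.mul_right h2o)), add_zero]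
    exact ⟨Sylow.ofCard _ hcard, Subgroup.map_subtype_le _⟩
  obtain ⟨g, hg⟩ := MulAction.exists_smul_eq G S₁ S
  set u' := g * u * g⁻¹ with hu'
  have hu'S : ∀ x ∈ (S : Subgroup G), u' * x = x * u' := by
    intro x hx
    rw [← hg, Sylow.coe_subgroup_smul, Subgroup.mem_pointwise_smul_iff_inv_smul_mem] at hx
    have h1 : g⁻¹ * x * g * u = u * (g⁻¹ * x * g) := by
      have := Subgroup.mem_centralizer_singleton_iff.mp (hS₁ hx)
      simpa [MulAut.smul_def, ← map_inv] using this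
    calc u' * x = g * (u * (g⁻¹ * x * g)) * g⁻¹ := by rw [hu']; group
      _ = x * u' := by rw [← h1, hu']; group
  have hu'mem : u' ∈ (S : Subgroup G) := by
    have h1 : u' ^ 2 ^ i₀ = 1 := by rw [hu', conj_pow, hi₀, mul_one, mul_inv_cancel]
    have hz : IsPGroup 2 (Subgroup.zpowers u') := by
      obtain ⟨l, -, hl⟩ := (Nat.dvd_prime_pow Nat.prime_two).mp (orderOf_dvd_of_pow_eq_one h1)
      exact IsPGroup.of_card (n := l) (by rw [Nat.card_zpowers, hl])
    have hnorm : u' ∈ Subgroup.normalizer ((S : Subgroup G) : Set G) := by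
      refine Subgroup.mem_normalizer_iff.mpr fun w => ⟨fun hw => ?_, fun hw => ?_⟩
      · rwa [hu'S w hw, mul_inv_cancel_right]
      · have hw' : u'⁻¹ * (u' * w * u'⁻¹) * u' = u' * w * u'⁻¹ := by
          rw [mul_assoc _ (u' * w * u'⁻¹), ← hu'S _ hw, inv_mul_cancel_left]
        have h2 : w = u' * w * u'⁻¹ := by rw [← hw']; group
        rw [h2]; exact hw
    exact (S.3 (IsPGroup.to_sup_of_normal_right' hz S.2 (Subgroup.zpowers_le.mpr hnorm))
      le_sup_right).le (Subgroup.mem_sup_left (Subgroup.mem_zpowers _))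
  have hu'2 : (π u') ^ 2 = 1 := by
    rw [hu', map_mul, map_mul, map_inv, conj_pow, hu2, mul_one, mul_inv_cancel]
  have hu'1 : π u' ≠ 1 := by
    rw [hu', map_mul, map_mul, map_inv]
    exact fun h' => hj ((QuotientGroup.eq_one_iff _).mp (conj_eq_one_iff.mp h'))
  have hk' : 2 ^ k = 2 * 2 ^ (k - 1) := by rw [← pow_succ']; congr 1; omega
  set h' := 2 ^ (k - 1) with hh'
  have hpre : s * a * s⁻¹ = (a * z₀)⁻¹ := by rw [← hsa]; group
  -- the rotation by `π` of exponent `h'` becomes trivial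
  have hch : c ^ h' = 1 := by
    rcases hdecomp u' hu'mem with ⟨i, w, hw, hi⟩ | ⟨i, w, hw, hi⟩
    · have hw1 : π w = 1 := (QuotientGroup.eq_one_iff _).mpr hw
      rw [hi, map_mul, map_zpow, hπa, hw1, mul_one] at hu'1
      rw [hi, map_mul, map_zpow, hπa, hw1, mul_one, ← zpow_natCast, ← zpow_mul] at hu'2
      have h2 := orderOf_dvd_iff_zpow_eq_one.mpr hu'2
      rw [hab, hk'] at h2
      push_cast at h2
      rw [mul_comm i] at h2
      obtain ⟨t, ht⟩ := Int.dvd_of_mul_dvd_mul_left two_ne_zero h2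
      rcases Int.even_or_odd t with ⟨l, hl⟩ | ⟨l, hl⟩
      · refine absurd (orderOf_dvd_iff_zpow_eq_one.mp ?_) hu'1
        refine ⟨l, ?_⟩
        rw [hab, hk', ht, hl]; push_cast; ring
      have hcen : a ^ ((2 * (h' : ℤ)) * l) ∈ Subgroup.center G := by
        rw [zpow_mul]
        refine Subgroup.zpow_mem _ ((QuotientGroup.eq_one_iff _).mp ?_) l
        show π (a ^ (2 * (h' : ℤ))) = 1
        rw [map_zpow, hπa, show (2 * (h' : ℤ)) = ((2 ^ k : ℕ) : ℤ) by rw [hk']; push_cast; ring,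
          zpow_natCast, ← hab, pow_orderOf_eq_one]
      obtain ⟨X, hX, h3⟩ : ∃ X ∈ Subgroup.center G, u' = a ^ h' * X := by
        refine ⟨_, mul_mem hcen hw, ?_⟩
        rw [hi, ← mul_assoc, ← zpow_natCast a h', ← zpow_add]
        congr 2
        rw [ht, hl]; ring
      have h4 : s * a ^ h' * s⁻¹ = a ^ h' := by
        have h5 := (hu'S s hs).symm
        rw [h3, ← mul_assoc, mul_assoc (a ^ h'), ← Subgroup.mem_center_iff.mp hX s,
          ← mul_assoc, mul_left_inj] at h5
        rw [h5, mul_inv_cancel_right]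
      rw [← conj_pow, hpre, inv_pow] at h4
      rw [hc, ((Commute.refl a).mul_right (hcz a)).mul_pow]
      nth_rewrite 1 [← h4]
      exact inv_mul_cancel _
    · have h5 := hu'S a ha
      rw [hi, mul_assoc (a ^ i * s), ← Subgroup.mem_center_iff.mp hw a, ← mul_assoc a (a ^ i * s),
        ← mul_assoc (a ^ i * s), mul_left_inj, ← mul_assoc, ← (Commute.self_zpow a i).eq.symm,
        mul_assoc, mul_assoc, mul_right_inj] at h5
      have h6 : a = (a * z₀)⁻¹ := by rw [← hpre, h5, mul_inv_cancel_right]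
      rw [hc, show a * (a * z₀) = 1 by nth_rewrite 1 [h6]; exact inv_mul_cancel _, one_pow]
  -- commutators are powers of `c`
  have hconj : ∀ j : ℤ, s * a ^ j * s⁻¹ = (a * z₀) ^ (-j) := by
    intro j
    rw [← conj_zpow, hpre, _root_.inv_zpow']
  have hazc : ∀ i j : ℤ, a ^ i * (a * z₀) ^ j = (a * z₀) ^ j * a ^ i := fun i j =>
    (((Commute.refl a).mul_right (hcz a)).zpow_zpow i j).eq
  have hcpow : ∀ j : ℤ, c ^ j = a ^ j * (a * z₀) ^ j := fun j => by
    rw [hc, ((Commute.refl a).mul_right (hcz a)).mul_zpow]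
  have hsr : ∀ i j : ℤ, ⁅a ^ i * s, a ^ j⁆ = c ^ (-j) := by
    intro i j
    calc ⁅a ^ i * s, a ^ j⁆ = a ^ i * (s * a ^ j * s⁻¹) * (a ^ i)⁻¹ * (a ^ j)⁻¹ := by
          rw [commutatorElement_def]; group
      _ = (a * z₀) ^ (-j) * a ^ (-j) := by
          rw [hconj, hazc, mul_inv_cancel_right, zpow_neg, zpow_neg]
      _ = _ := by rw [hcpow, hazc]
  have hrs : ∀ i j : ℤ, ⁅a ^ i * s, a ^ j * s⁆ = c ^ (i - j) := by
    intro i j
    calc ⁅a ^ i * s, a ^ j * s⁆ = a ^ i * (s * a ^ (j - i) * s⁻¹) * (a ^ j)⁻¹ := by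
          rw [commutatorElement_def, sub_eq_add_neg, zpow_add]; group
      _ = (a * z₀) ^ (i - j) * a ^ (i - j) := by
          rw [hconj, hazc, neg_sub, mul_assoc, zpow_sub a]
      _ = _ := by rw [hcpow, hazc]
  have hmem : ∀ x ∈ (S : Subgroup G), ∀ y ∈ (S : Subgroup G), ⁅x, y⁆ ∈ Subgroup.zpowers c := by
    intro x hx y hy
    rcases hdecomp x hx with ⟨i, w, hw, rfl⟩ | ⟨i, w, hw, rfl⟩ <;>
      rcases hdecomp y hy with ⟨j, v, hv, rfl⟩ | ⟨j, v, hv, rfl⟩ <;>
      rw [commutatorElement_mul_central hw hv]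
    · rw [commutatorElement_eq_one_iff_mul_comm.mpr ((Commute.refl a).zpow_zpow i j).eq]
      exact one_mem _
    · rw [← commutatorElement_inv, hsr]
      exact inv_mem (Subgroup.zpow_mem_zpowers _ _)
    · rw [hsr]; exact Subgroup.zpow_mem_zpowers _ _
    · rw [hrs]; exact Subgroup.zpow_mem_zpowers _ _
  refine ⟨S, fun x hx hxz => ?_⟩
  have hle : _root_.commutator (S : Subgroup G) ≤ (Subgroup.zpowers c).subgroupOf (S : Subgroup G) := by
    rw [commutator_def, Subgroup.commutator_le]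
    exact fun x _ y _ => hmem x x.2 y y.2
  obtain ⟨l, hl⟩ := Subgroup.mem_zpowers_iff.mp (hle hx)
  have h2 : ab ^ (2 * l) = 1 := by
    have h1 : π (x : G) = 1 := (QuotientGroup.eq_one_iff _).mpr hxz
    have hz1 : π z₀ = 1 := (QuotientGroup.eq_one_iff _).mpr hz₀
    rw [show (x : G) = c ^ l from hl.symm, map_zpow, hc, map_mul, map_mul, hπa, hz1, mul_one] at h1
    rwa [zpow_mul, zpow_two]
  have h3 := orderOf_dvd_iff_zpow_eq_one.mpr h2
  rw [hab, hk'] at h3
  push_cast at h3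
  obtain ⟨t, ht⟩ := Int.dvd_of_mul_dvd_mul_left two_ne_zero h3
  apply Subtype.ext
  show (x : G) = 1
  rw [← show c ^ l = (x : G) from hl, ht, zpow_mul, zpow_natCast, hch, one_zpow]

end OddHyp

end CfsgLib.PSL2Sizes
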