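import Cfsg.Agent.Lib.PSL2Sizes.Basic
import Cfsg.Agent.Lib.PSL2Spec.Sylow

/-!
# Groups with the class sizes of `PSL₂(q)`, `q` odd: the local structure of `G / Z(G)`
-/

set_option autoImplicit false
set_option linter.unusedSectionVars false
set_option linter.style.haveILetI false

namespace CfsgLib.PSL2Sizes

variable {G : Type*} [Group G] [Finite G]

local notation "Q" => G ⧸ Subgroup.center G
local notation "π" => QuotientGroup.mk' (Subgroup.center G)

/-- `G` has the class sizes of `PSL₂(q)`, `q = p ^ f` odd, with `e` even, `e + o = q`,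
`4 e o + 1 = q ^ 2`. -/
structure OddHyp (G : Type*) [Group G] [Finite G] (p f q e o : ℕ) : Prop where
  prime : p.Prime
  p_ne_two : p ≠ 2
  q_eq : q = p ^ f
  seven_le : 7 ≤ q
  even : 2 ∣ e
  sum : e + o = q
  prod : 4 * (e * o) + 1 = q ^ 2
  sizes : ∀ m : ℕ, (∃ x : G, (C x).index = m) ↔
    m = 1 ∨ m = 2 * (e * o) ∨ m = q * o ∨ m = 2 * (q * o) ∨ m = 2 * (q * e)

namespace OddHyp

variable {p f q e o : ℕ} (h : OddHyp G p f q e o)
include h

theorem bounds : 3 ≤ e ∧ 3 ≤ o := by
  have h1 := h.sum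
  have h2 := h.prod
  have h3 := h.seven_le
  constructor <;> by_contra hlt
  · obtain ⟨k, hk⟩ := h.even
    have : e ≤ 2 := by omega
    nlinarith
  · have : o ≤ 2 := by omega
    nlinarith

theorem p_dvd_q : p ∣ q := by
  rw [h.q_eq]
  refine dvd_pow_self p fun hf => ?_
  have := h.seven_le
  rw [h.q_eq, hf, pow_zero] at this
  omega

theorem coprimes : Nat.Coprime q e ∧ Nat.Coprime q o ∧ Nat.Coprime e o ∧ Nat.Coprime 2 q ∧
    Nat.Coprime 2 o := by
  have hq : ∀ k, k ∣ q → k ∣ e * o → k = 1 := fun k hk1 hk2 => by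
    have h1 : k ∣ 4 * (e * o) + 1 := h.prod ▸ dvd_pow hk1 two_ne_zero
    exact Nat.dvd_one.mp ((Nat.dvd_add_right (dvd_mul_of_dvd_right hk2 4)).mp h1)
  have hqe : Nat.Coprime q e :=
    Nat.coprime_of_dvd fun k hk h1 h2 => hk.one_lt.ne' (hq k h1 (dvd_mul_of_dvd_left h2 o))
  have hqo : Nat.Coprime q o :=
    Nat.coprime_of_dvd fun k hk h1 h2 => hk.one_lt.ne' (hq k h1 (dvd_mul_of_dvd_right h2 e))
  have heo : Nat.Coprime e o := Nat.coprime_of_dvd fun k hk h1 h2 =>
    hk.one_lt.ne' (hq k (h.sum ▸ dvd_add h1 h2) (dvd_mul_of_dvd_left h1 o))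
  exact ⟨hqe, hqo, heo, hqe.symm.coprime_dvd_left h.even, heo.coprime_dvd_left h.even⟩

theorem q_pos : 0 < q := by have := h.seven_le; omega

theorem size_cases {x : G} (hx : x ∉ Subgroup.center G) :
    (C x).index = 2 * (e * o) ∨ (C x).index = q * o ∨ (C x).index = 2 * (q * o) ∨
      (C x).index = 2 * (q * e) :=
  ((h.sizes _).mp ⟨x, rfl⟩).resolve_left fun h1 => hx (index_eq_one_iff.mp h1)

theorem exists_size {m : ℕ} (hm : m = 2 * (e * o) ∨ m = q * o ∨ m = 2 * (q * o) ∨ m = 2 * (q * e)) :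
    ∃ x : G, x ∉ Subgroup.center G ∧ (C x).index = m := by
  obtain ⟨x, hx⟩ := (h.sizes m).mpr (Or.inr hm)
  refine ⟨x, fun hc => ?_, hx⟩
  rw [index_eq_one_iff.mpr hc] at hx
  obtain ⟨he, ho⟩ := h.bounds
  have hq := h.seven_le
  have : 1 < m := by
    rcases hm with rfl | rfl | rfl | rfl <;> nlinarith
  omega

theorem iso_a {x : G} (hx : (C x).index = 2 * (e * o)) : Iso x := by
  obtain ⟨hqe, hqo, heo, h2q, h2o⟩ := h.coprimes
  obtain ⟨he, ho⟩ := h.bounds
  have hq7 := h.seven_le
  have hco : Nat.Coprime q (2 * (e * o)) := Nat.Coprime.mul_right h2q.symm (hqe.mul_right hqo)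
  intro y hy hd
  rw [hx] at hd ⊢
  rcases h.size_cases hy with hy' | hy' | hy' | hy' <;> rw [hy'] at hd ⊢
  all_goals
    rcases hd with hd | hd
  · exact absurd (hco.eq_one_of_dvd ((dvd_mul_right q o).trans hd)) (by omega)
  · have h1 : e ∣ q * o := (dvd_mul_of_dvd_right (dvd_mul_right e o) 2).trans hd
    exact absurd ((hqe.symm.mul_right heo).eq_one_of_dvd h1) (by omega)
  · exact absurd (hco.eq_one_of_dvd ((dvd_mul_of_dvd_right (dvd_mul_right q o) 2).trans hd)) (by omega)
  · have h1 : e ∣ q * o * 2 := (dvd_mul_of_dvd_right (dvd_mul_right e o) 2).trans (by rwa [mul_comm _ 2])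
    have h2 := Nat.le_of_dvd two_pos ((hqe.symm.mul_right heo).dvd_of_dvd_mul_left h1)
    omega
  · exact absurd (hco.eq_one_of_dvd ((dvd_mul_of_dvd_right (dvd_mul_right q e) 2).trans hd)) (by omega)
  · have h1 : o ∣ 2 * (q * e) := (dvd_mul_of_dvd_right (dvd_mul_left o e) 2).trans hd
    exact absurd ((h2o.symm.mul_right (hqo.symm.mul_right heo.symm)).eq_one_of_dvd h1) (by omega)

theorem iso_o {x : G} (hx : (C x).index = 2 * (q * e)) : Iso x := by
  obtain ⟨hqe, hqo, heo, h2q, h2o⟩ := h.coprimes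
  obtain ⟨he, ho⟩ := h.bounds
  have hq7 := h.seven_le
  have hco : Nat.Coprime o (2 * (q * e)) :=
    Nat.Coprime.mul_right h2o.symm (hqo.symm.mul_right heo.symm)
  intro y hy hd
  rw [hx] at hd ⊢
  rcases h.size_cases hy with hy' | hy' | hy' | hy' <;> rw [hy'] at hd ⊢
  all_goals
    rcases hd with hd | hd
  · exact absurd (hco.eq_one_of_dvd ((dvd_mul_of_dvd_right (dvd_mul_left o e) 2).trans hd)) (by omega)
  · have h1 : q ∣ 2 * (e * o) := (dvd_mul_of_dvd_right (dvd_mul_right q e) 2).trans hd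
    exact absurd ((h2q.symm.mul_right (hqe.mul_right hqo)).eq_one_of_dvd h1) (by omega)
  · exact absurd (hco.eq_one_of_dvd ((dvd_mul_left o q).trans hd)) (by omega)
  · have h1 : e ∣ q * o := (dvd_mul_of_dvd_right (dvd_mul_left e q) 2).trans hd
    exact absurd ((hqe.symm.mul_right heo).eq_one_of_dvd h1) (by omega)
  · exact absurd (hco.eq_one_of_dvd ((dvd_mul_of_dvd_right (dvd_mul_left o q) 2).trans hd)) (by omega)
  · have h1 : e ∣ q * o * 2 := (dvd_mul_of_dvd_right (dvd_mul_left e q) 2).trans (by rwa [mul_comm _ 2])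
    have h2 := Nat.le_of_dvd two_pos ((hqe.symm.mul_right heo).dvd_of_dvd_mul_left h1)
    omega

theorem index_dvd_card (x : G) : (C x).index ∣ Nat.card Q :=
  Dvd.intro_left _ (cb_mul_index x)

theorem card_eq : Nat.card Q = 2 * q * e * o := by
  obtain ⟨hqe, hqo, heo, h2q, h2o⟩ := h.coprimes
  obtain ⟨he, ho⟩ := h.bounds
  obtain ⟨xa, hxa, hia⟩ := h.exists_size (Or.inl rfl)
  obtain ⟨xi, hxi, hii⟩ := h.exists_size (Or.inr (Or.inl rfl))
  obtain ⟨xo, hxo, hio⟩ := h.exists_size (Or.inr (Or.inr (Or.inr rfl)))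
  obtain ⟨M, hM⟩ : 2 * q * e * o ∣ Nat.card Q := by
    have h1 : 2 * (e * o) ∣ Nat.card Q := hia ▸ h.index_dvd_card xa
    have h2 : q ∣ Nat.card Q := (dvd_mul_right q o).trans (hii ▸ h.index_dvd_card xi)
    have h3 := (Nat.Coprime.mul_right h2q.symm (hqe.mul_right hqo)).mul_dvd_of_dvd_of_dvd h2 h1
    rwa [show q * (2 * (e * o)) = 2 * q * e * o by ring] at h3
  suffices M = 1 by rw [hM, this, mul_one]
  by_contra hM1
  obtain ⟨s, hs, hsM⟩ := Nat.exists_prime_and_dvd hM1
  have hcba : cb xa = q * M := by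
    have h1 := cb_mul_index xa
    rw [hia, hM] at h1
    exact Nat.eq_of_mul_eq_mul_right (show 0 < 2 * (e * o) by positivity) (by rw [h1]; ring)
  have hcbo : cb xo = o * M := by
    have h1 := cb_mul_index xo
    rw [hio, hM] at h1
    exact Nat.eq_of_mul_eq_mul_right (show 0 < 2 * (q * e) by have := h.q_pos; positivity)
      (by rw [h1]; ring)
  have hne : 2 * (e * o) ≠ 2 * (q * e) := fun h' => by
    have h1 : e * o = e * q := by linarith
    have h2 := Nat.eq_of_mul_eq_mul_left (by omega) h1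
    have h3 := h.sum
    omega
  by_cases hsp : s = p
  · subst hsp
    obtain ⟨r, hr, hro⟩ := Nat.exists_prime_and_dvd (show o ≠ 1 by omega)
    refine false_of_dvd (h.iso_o hio) hxo hxa hr hs ?_ (hcbo ▸ dvd_mul_of_dvd_left hro M)
      (hcbo ▸ dvd_mul_of_dvd_right hsM o) ?_ (by rw [hia, hio]; exact hne)
    · rintro rfl
      exact hr.one_lt.ne' (Nat.eq_one_of_dvd_coprimes hqo h.p_dvd_q hro)
    · rw [hia]
      intro h'
      exact hs.one_lt.ne' (Nat.eq_one_of_dvd_coprimes
        (Nat.Coprime.mul_right h2q.symm (hqe.mul_right hqo)) h.p_dvd_q h')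
  · have hcop : ∀ m, Nat.Coprime q m → p ∣ q := fun _ _ => h.p_dvd_q
    have hsq : ¬ s ∣ q := fun h' => hsp
      ((Nat.prime_dvd_prime_iff_eq hs h.prime).mp (hs.dvd_of_dvd_pow (h.q_eq ▸ h')))
    by_cases hso : s ∣ o
    · refine false_of_dvd (h.iso_a hia) hxa hxo h.prime hs (Ne.symm hsp)
        (hcba ▸ dvd_mul_of_dvd_left h.p_dvd_q M) (hcba ▸ dvd_mul_of_dvd_right hsM q) ?_
        (by rw [hia, hio]; exact hne.symm)
      rw [hio]
      intro h'
      exact hs.one_lt.ne' (Nat.eq_one_of_dvd_coprimes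
        (Nat.Coprime.mul_right h2o.symm (hqo.symm.mul_right heo.symm)) hso h')
    · refine false_of_dvd (h.iso_a hia) hxa hxi h.prime hs (Ne.symm hsp)
        (hcba ▸ dvd_mul_of_dvd_left h.p_dvd_q M) (hcba ▸ dvd_mul_of_dvd_right hsM q) ?_ ?_
      · rw [hii]
        exact fun h' => (hs.dvd_mul.mp h').elim hsq hso
      · rw [hia, hii]
        intro h'
        have h1 : q = 2 * e := Nat.eq_of_mul_eq_mul_right (show 0 < o by omega) (by linarith)
        exact absurd (h1 ▸ dvd_mul_right 2 e : 2 ∣ q) (Nat.prime_two.coprime_iff_not_dvd.mp h2q)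

theorem cb_cases {x : G} (hx : x ∉ Subgroup.center G) :
    cb x = q ∨ cb x = o ∨ cb x = e ∨ cb x = 2 * e := by
  obtain ⟨he, ho⟩ := h.bounds
  have hq := h.q_pos
  have h1 := cb_mul_index x
  rw [h.card_eq] at h1
  rcases h.size_cases hx with h' | h' | h' | h' <;> rw [h'] at h1
  · exact Or.inl (Nat.eq_of_mul_eq_mul_right (show 0 < 2 * (e * o) by positivity) (by rw [h1]; ring))
  · exact Or.inr (Or.inr (Or.inr (Nat.eq_of_mul_eq_mul_right (show 0 < q * o by positivity)
      (by rw [h1]; ring))))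
  · exact Or.inr (Or.inr (Or.inl (Nat.eq_of_mul_eq_mul_right (show 0 < 2 * (q * o) by positivity)
      (by rw [h1]; ring))))
  · exact Or.inr (Or.inl (Nat.eq_of_mul_eq_mul_right (show 0 < 2 * (q * e) by positivity)
      (by rw [h1]; ring)))

theorem cb_of_p {x : G} (hx : x ∉ Subgroup.center G) (hp : p ∣ cb x) : cb x = q := by
  obtain ⟨hqe, hqo, heo, h2q, h2o⟩ := h.coprimes
  rcases h.cb_cases hx with h' | h' | h' | h'
  · exact h'
  all_goals rw [h'] at hp
  · exact absurd (Nat.eq_one_of_dvd_coprimes hqo h.p_dvd_q hp) h.prime.one_lt.ne'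
  · exact absurd (Nat.eq_one_of_dvd_coprimes hqe h.p_dvd_q hp) h.prime.one_lt.ne'
  · exact absurd (Nat.eq_one_of_dvd_coprimes (h2q.symm.mul_right hqe) h.p_dvd_q hp) h.prime.one_lt.ne'

theorem cb_of_o {x : G} (hx : x ∉ Subgroup.center G) {r : ℕ} (hr : r.Prime) (hro : r ∣ o)
    (hr' : r ∣ cb x) : cb x = o := by
  obtain ⟨hqe, hqo, heo, h2q, h2o⟩ := h.coprimes
  rcases h.cb_cases hx with h' | h' | h' | h'
  · exact absurd (Nat.eq_one_of_dvd_coprimes hqo (h' ▸ hr') hro) hr.one_lt.ne'
  · exact h'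
  · exact absurd (Nat.eq_one_of_dvd_coprimes heo (h' ▸ hr') hro) hr.one_lt.ne'
  · exact absurd (Nat.eq_one_of_dvd_coprimes (h2o.mul_left heo) (h' ▸ hr') hro) hr.one_lt.ne'

theorem cb_of_e {x : G} (hx : x ∉ Subgroup.center G) {r : ℕ} (hr : r.Prime) (hre : r ∣ e)
    (hr' : r ∣ cb x) : cb x = e ∨ cb x = 2 * e := by
  obtain ⟨hqe, hqo, heo, h2q, h2o⟩ := h.coprimes
  rcases h.cb_cases hx with h' | h' | h' | h'
  · exact absurd (Nat.eq_one_of_dvd_coprimes hqe (h' ▸ hr') hre) hr.one_lt.ne'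
  · exact absurd (Nat.eq_one_of_dvd_coprimes heo hre (h' ▸ hr')) hr.one_lt.ne'
  · exact Or.inl h'
  · exact Or.inr h'

/-- A lift of a non-trivial element of prime power order. -/
theorem lift {r j : ℕ} (hr : r.Prime) {y : Q} (hy1 : y ≠ 1) (hy : y ^ r ^ j = 1) :
    ∃ u : G, π u = y ∧ u ∉ Subgroup.center G ∧ (∃ i, u ^ r ^ i = 1) ∧ r ∣ cb u := by
  obtain ⟨u, rfl, i, hi⟩ := exists_lift hr hy
  have hu : u ∉ Subgroup.center G := fun h' => hy1 ((QuotientGroup.eq_one_iff u).mpr h')
  exact ⟨u, rfl, hu, ⟨i, hi⟩, dvd_cb hu hr hi⟩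

theorem card_centralizer_of_p {y : Q} (hy1 : y ≠ 1) {j : ℕ} (hy : y ^ p ^ j = 1) :
    Nat.card (Subgroup.centralizer ({y} : Set Q)) = q := by
  obtain ⟨hqe, hqo, heo, h2q, h2o⟩ := h.coprimes
  obtain ⟨u, rfl, hu, ⟨i, hi⟩, hp⟩ := h.lift h.prime hy1 hy
  obtain ⟨k, hk⟩ := exists_card_centralizer h.prime hi
  have h1 : cb u * p ^ k ∣ Nat.card Q := hk ▸ Subgroup.card_subgroup_dvd_card _
  rw [h.cb_of_p hu hp, h.card_eq, show 2 * q * e * o = q * (2 * (e * o)) by ring] at h1
  have h2 : p ^ k ∣ 2 * (e * o) := Nat.dvd_of_mul_dvd_mul_left h.q_pos h1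
  have h3 : Nat.Coprime (p ^ k) (2 * (e * o)) := ((Nat.Coprime.coprime_dvd_left h.p_dvd_q
    (Nat.Coprime.mul_right h2q.symm (hqe.mul_right hqo))).pow_left k)
  rw [hk, h.cb_of_p hu hp, h3.eq_one_of_dvd h2, mul_one]

theorem card_centralizer_of_two {y : Q} (hy : orderOf y = 2) :
    Nat.card (Subgroup.centralizer ({y} : Set Q)) ∣ 2 * e := by
  obtain ⟨hqe, hqo, heo, h2q, h2o⟩ := h.coprimes
  have hy1 : y ≠ 1 := fun h' => by simp [h'] at hy
  obtain ⟨u, rfl, hu, ⟨i, hi⟩, hp⟩ := h.lift Nat.prime_two hy1 (j := 1)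
    (by rw [pow_one, ← hy, pow_orderOf_eq_one])
  obtain ⟨k, hk⟩ := exists_card_centralizer Nat.prime_two hi
  have h1 : cb u * 2 ^ k ∣ Nat.card Q := hk ▸ Subgroup.card_subgroup_dvd_card _
  rw [h.card_eq] at h1
  have h2 : Nat.Coprime (cb u * 2 ^ k) (q * o) := by
    refine Nat.Coprime.mul_left ?_ (Nat.Coprime.pow_left _ (h2q.mul_right h2o))
    rcases h.cb_of_e hu Nat.prime_two h.even hp with h' | h' <;> rw [h']
    · exact hqe.symm.mul_right heo
    · exact Nat.Coprime.mul_left (h2q.mul_right h2o) (hqe.symm.mul_right heo)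
  rw [hk]
  exact h2.dvd_of_dvd_mul_right (by convert h1 using 1; ring)

theorem centralizer_eq_of_not_dvd {u : G} {r i : ℕ} (hr : r.Prime) (hi : u ^ r ^ i = 1)
    (hnd : ¬ r ∣ (C u).index) :
    Subgroup.centralizer ({π u} : Set Q) = (C u).map π := by
  refine centralizer_eq_map hr hi ?_
  rw [← cb_mul_index u, Nat.factorization_mul (cb_pos u).ne' Subgroup.index_ne_zero_of_finite,
    Finsupp.add_apply, Nat.factorization_eq_zero_of_not_dvd hnd, add_zero]

theorem odd_prime_cases {r : ℕ} (hr : r.Prime) (hr2 : r ≠ 2) (hrp : r ≠ p) (hrn : r ∣ Nat.card Q) :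
    r ∣ e ∨ r ∣ o := by
  rw [h.card_eq] at hrn
  rcases hr.dvd_mul.mp hrn with h1 | h1
  · rcases hr.dvd_mul.mp h1 with h2 | h2
    · rcases hr.dvd_mul.mp h2 with h3 | h3
      · exact absurd ((Nat.prime_dvd_prime_iff_eq hr Nat.prime_two).mp h3) hr2
      · exact absurd ((Nat.prime_dvd_prime_iff_eq hr h.prime).mp
          (hr.dvd_of_dvd_pow (h.q_eq ▸ h3))) hrp
    · exact Or.inl h2
  · exact Or.inr h1

/-- The trichotomy of non-trivial elements of the quotient. -/
theorem trichotomy {x : Q} (hx : x ≠ 1) :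
    (orderOf x ∣ q ∧ 2 * (e * o) ∣ (Subgroup.centralizer ({x} : Set Q)).index) ∨
    (orderOf x ∣ o ∧ 2 * (q * e) ∣ (Subgroup.centralizer ({x} : Set Q)).index) ∨
    (orderOf x ∣ 2 * e ∧ q * o ∣ (Subgroup.centralizer ({x} : Set Q)).index) := by
  obtain ⟨hqe, hqo, heo, h2q, h2o⟩ := h.coprimes
  obtain ⟨he, ho⟩ := h.bounds
  have hq := h.q_pos
  obtain ⟨r, hr, hrd⟩ := Nat.exists_prime_and_dvd (fun h' => hx (orderOf_eq_one_iff.mp h'))
  set y := x ^ (orderOf x / r)
  have hy : orderOf y = r := orderOf_pow_orderOf_div (orderOf_pos x).ne' hrd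
  have hle : Subgroup.centralizer ({x} : Set Q) ≤ Subgroup.centralizer ({y} : Set Q) := fun g hg =>
    Subgroup.mem_centralizer_singleton_iff.mpr
      ((show Commute g x from Subgroup.mem_centralizer_singleton_iff.mp hg).pow_right _)
  have hxm : x ∈ Subgroup.centralizer ({x} : Set Q) := Subgroup.mem_centralizer_singleton_iff.mpr rfl
  have key : ∀ a b : ℕ, 0 < a → Nat.card (Subgroup.centralizer ({y} : Set Q)) ∣ a →
      2 * q * e * o = a * b →
      orderOf x ∣ a ∧ b ∣ (Subgroup.centralizer ({x} : Set Q)).index := by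
    intro a b ha hdvd hab
    have h1 : Nat.card (Subgroup.centralizer ({x} : Set Q)) ∣ a :=
      (Subgroup.card_dvd_of_le hle).trans hdvd
    refine ⟨((Subgroup.orderOf_coe (⟨x, hxm⟩ : Subgroup.centralizer ({x} : Set Q))).dvd.trans
      (orderOf_dvd_natCard _)).trans h1, ?_⟩
    obtain ⟨c, hc⟩ := h1
    have h2 := (Subgroup.centralizer ({x} : Set Q)).card_mul_index
    rw [h.card_eq, hab, hc, mul_assoc] at h2
    exact ⟨c, (Nat.eq_of_mul_eq_mul_left Nat.card_pos h2).trans (mul_comm _ _)⟩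
  have hy1 : y ≠ 1 := fun h' => hr.one_lt.ne (by rw [← hy, h', orderOf_one])
  have hyp : y ^ r ^ 1 = 1 := by rw [pow_one, ← hy, pow_orderOf_eq_one]
  by_cases hr2 : r = 2
  · refine Or.inr (Or.inr (key _ (q * o) (by positivity) (h.card_centralizer_of_two (by rw [hy, hr2])) ?_))
    ring
  by_cases hrp : r = p
  · refine Or.inl (key q (2 * (e * o)) hq (h.card_centralizer_of_p hy1 (hrp ▸ hyp)).dvd ?_)
    ring
  obtain ⟨u, hu', hu, ⟨i, hi⟩, hp⟩ := h.lift hr hy1 hyp
  rcases h.odd_prime_cases hr hr2 hrp (hy ▸ orderOf_dvd_natCard y) with hre | hro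
  · have hc := h.cb_of_e hu hr hre hp
    refine Or.inr (Or.inr (key _ (q * o) (by positivity) ?_ (by ring)))
    rw [← hu', h.centralizer_eq_of_not_dvd hr hi, card_map_C]
    · rcases hc with h' | h' <;> rw [h']
      exact dvd_mul_left e 2
    · intro h'
      have h1 : r ∣ 2 * (q * o) := by
        have h3 := cb_mul_index u
        rw [h.card_eq] at h3
        rcases hc with h' | h''
        · rw [h'] at h3
          have : (C u).index = 2 * (q * o) :=
            Nat.eq_of_mul_eq_mul_left (show 0 < e by omega) (by rw [h3]; ring)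
          rwa [← this]
        · rw [h''] at h3
          have : (C u).index = q * o :=
            Nat.eq_of_mul_eq_mul_left (show 0 < 2 * e by omega) (by rw [h3]; ring)
          exact dvd_mul_of_dvd_right (this ▸ ‹r ∣ (C u).index›) 2
      rcases hr.dvd_mul.mp h1 with h2 | h2
      · exact hr2 ((Nat.prime_dvd_prime_iff_eq hr Nat.prime_two).mp h2)
      · exact hr.one_lt.ne' (Nat.eq_one_of_dvd_coprimes (hqe.symm.mul_right heo) hre h2)
  · have hc := h.cb_of_o hu hr hro hp
    refine Or.inr (Or.inl (key o (2 * (q * e)) (by omega) ?_ (by ring)))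
    rw [← hu', h.centralizer_eq_of_not_dvd hr hi, card_map_C, hc]
    intro h'
    have h3 := cb_mul_index u
    rw [h.card_eq, hc] at h3
    have h4 : (C u).index = 2 * (q * e) :=
      Nat.eq_of_mul_eq_mul_left (show 0 < o by omega) (by rw [h3]; ring)
    exact hr.one_lt.ne' (Nat.eq_one_of_dvd_coprimes
      (Nat.Coprime.mul_right h2o.symm (hqo.symm.mul_right heo.symm)) hro (h4 ▸ h'))

theorem card_orderOf_dvd_o : Nat.card {x : Q | x ≠ 1 ∧ orderOf x ∣ o} = (o - 1) * (q * e) := by
  classical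
  obtain ⟨hqe, hqo, heo, h2q, h2o⟩ := h.coprimes
  obtain ⟨he, ho⟩ := h.bounds
  haveI : Fintype Q := Fintype.ofFinite _
  let S : ℕ → Set Q := fun a => {x : Q | x ≠ 1 ∧ orderOf x ∣ a}
  have hinv : ∀ a, ∀ g x : Q, x ∈ S a → g * x * g⁻¹ ∈ S a := fun a g x hx =>
    ⟨fun h' => hx.1 (by rwa [mul_inv_eq_one, mul_eq_left] at h'), by
      rw [← MulAut.conj_apply, (MulAut.conj g).orderOf_eq]; exact hx.2⟩
  have excl : ∀ x : Q, x ≠ 1 → ∀ a b : ℕ, Nat.Coprime a b → orderOf x ∣ a → orderOf x ∣ b → False :=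
    fun x hx a b hab h1 h2 => hx (orderOf_eq_one_iff.mp (Nat.eq_one_of_dvd_coprimes hab h1 h2))
  obtain ⟨A, hA⟩ : 2 * (e * o) ∣ Nat.card (S q) := dvd_card_of_invariant _ (hinv q) fun x hx => by
    rcases h.trichotomy hx.1 with h' | h' | h'
    · exact h'.2
    · exact (excl x hx.1 q o hqo hx.2 h'.1).elim
    · exact (excl x hx.1 q (2 * e) (h2q.symm.mul_right hqe) hx.2 h'.1).elim
  obtain ⟨B, hB⟩ : 2 * (q * e) ∣ Nat.card (S o) := dvd_card_of_invariant _ (hinv o) fun x hx => by
    rcases h.trichotomy hx.1 with h' | h' | h'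
    · exact (excl x hx.1 q o hqo h'.1 hx.2).elim
    · exact h'.2
    · exact (excl x hx.1 (2 * e) o (h2o.mul_left heo) h'.1 hx.2).elim
  obtain ⟨D, hD⟩ : q * o ∣ Nat.card (S (2 * e)) := dvd_card_of_invariant _ (hinv _) fun x hx => by
    rcases h.trichotomy hx.1 with h' | h' | h'
    · exact (excl x hx.1 q (2 * e) (h2q.symm.mul_right hqe) h'.1 hx.2).elim
    · exact (excl x hx.1 (2 * e) o (h2o.mul_left heo) hx.2 h'.1).elim
    · exact h'.2
  have hsum : Nat.card Q = 1 + Nat.card (S q) + Nat.card (S o) + Nat.card (S (2 * e)) := by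
    have h0 : ∀ a, Nat.card (S a) = (Finset.univ.filter fun x : Q => x ≠ 1 ∧ orderOf x ∣ a).card :=
      fun a => by rw [← Fintype.card_subtype, ← Nat.card_eq_fintype_card]; rfl
    rw [h0, h0, h0, Nat.card_eq_fintype_card, ← Finset.card_univ,
      show (1 : ℕ) = ({1} : Finset Q).card from rfl,
      ← Finset.card_union_of_disjoint, ← Finset.card_union_of_disjoint,
      ← Finset.card_union_of_disjoint]
    · congr 1
      refine (Finset.eq_univ_of_forall fun x => ?_).symm
      simp only [Finset.mem_union, Finset.mem_singleton, Finset.mem_filter, Finset.mem_univ, true_and]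
      by_cases hx : x = 1
      · tauto
      · rcases h.trichotomy hx with h' | h' | h' <;> tauto
    all_goals
      rw [Finset.disjoint_left]
      intro x
      simp only [Finset.mem_union, Finset.mem_singleton, Finset.mem_filter, Finset.mem_univ, true_and]
      rintro h1 ⟨h2, h3⟩
    · rcases h1 with (h1 | ⟨-, h1⟩) | ⟨-, h1⟩
      · exact h2 h1
      · exact excl x h2 q (2 * e) (h2q.symm.mul_right hqe) h1 h3
      · exact excl x h2 (2 * e) o (h2o.mul_left heo) h3 h1
    · rcases h1 with h1 | ⟨-, h1⟩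
      · exact h2 h1
      · exact excl x h2 q o hqo h1 h3
    · exact h2 h1
  rw [h.card_eq, hA, hB, hD] at hsum
  have hprod := h.prod
  have hs := h.sum
  have hq7 := h.seven_le
  have hAlb : 2 ≤ A := by
    by_contra hlt
    interval_cases A
    · have : q ∣ 1 := by
        refine (Nat.dvd_add_right (dvd_mul_right q (2 * e * B + o * D))).mp ?_
        exact ⟨2 * e * o, by linarith⟩
      exact absurd (Nat.dvd_one.mp this) (by omega)
    · have h1 : q ∣ 2 * (e * o) + 1 := by
        refine (Nat.dvd_add_right (dvd_mul_right q (2 * e * B + o * D))).mp ?_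
        exact ⟨2 * e * o, by linarith⟩
      have h2 : q ∣ 4 * (e * o) + 1 := hprod ▸ dvd_pow_self q two_ne_zero
      have h3 := Nat.dvd_sub (dvd_mul_of_dvd_right h1 2) h2
      rw [show 2 * (2 * (e * o) + 1) - (4 * (e * o) + 1) = 1 by omega] at h3
      exact absurd (Nat.dvd_one.mp h3) (by omega)
  have hBlb : o ≤ 2 * B + 1 := by
    refine Nat.le_of_dvd (by omega) ?_
    have h1 : o ∣ 1 + 2 * (q * e) * B := by
      refine (Nat.dvd_add_right (dvd_mul_right o (2 * e * A + q * D))).mp ?_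
      exact ⟨2 * q * e, by linarith⟩
    have h2 : ((o : ℤ)) ∣ 2 * B + 1 := by
      obtain ⟨k, hk⟩ := h1
      refine ⟨(k : ℤ) - 2 * (4 * e - q) * B, ?_⟩
      have h3 : (1 : ℤ) + 2 * (q * e) * B = o * k := by exact_mod_cast hk
      have h4 : (4 : ℤ) * (e * o) + 1 = q ^ 2 := by exact_mod_cast hprod
      have h5 : (e : ℤ) + o = q := by exact_mod_cast hs
      have h6 : (q : ℤ) * e = 1 + o * (4 * e - q) := by
        rw [show (e : ℤ) = q - o by linarith] at h4 ⊢
        linarith
      rw [h6] at h3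
      linarith
    exact_mod_cast h2
  have hDlb : e ≤ D + 1 := by
    refine Nat.le_of_dvd (by omega) ?_
    have h1 : e ∣ 1 + q * o * D := by
      refine (Nat.dvd_add_right (dvd_mul_right e (2 * o * A + 2 * q * B))).mp ?_
      exact ⟨2 * q * o, by linarith⟩
    have h2 : ((e : ℤ)) ∣ D + 1 := by
      obtain ⟨k, hk⟩ := h1
      refine ⟨(k : ℤ) - (4 * o - q) * D, ?_⟩
      have h3 : (1 : ℤ) + q * o * D = e * k := by exact_mod_cast hk
      have h4 : (4 : ℤ) * (e * o) + 1 = q ^ 2 := by exact_mod_cast hprod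
      have h5 : (e : ℤ) + o = q := by exact_mod_cast hs
      have h6 : (q : ℤ) * o = 1 + e * (4 * o - q) := by
        rw [show (o : ℤ) = q - e by linarith] at h4 ⊢
        linarith
      rw [h6] at h3
      linarith
    exact_mod_cast h2
  have hB' : o = 2 * B + 1 := by
    by_contra hne
    have h1 : o + 1 ≤ 2 * B + 1 := by omega
    have h2 : 2 * (e * o) * 2 ≤ 2 * (e * o) * A := Nat.mul_le_mul_left _ hAlb
    have h3 : q * e * o ≤ q * e * (2 * B) := Nat.mul_le_mul_left _ (by omega)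
    have h4 : q * o * e ≤ q * o * (D + 1) := Nat.mul_le_mul_left _ hDlb
    have h5 : q * o < q ^ 2 := by
      rw [sq]; exact Nat.mul_lt_mul_of_pos_left (by omega) (by omega)
    nlinarith
  show Nat.card (S o) = _
  rw [hB, show o - 1 = 2 * B by omega]
  ring


/-- The properties of Sylow `r`-subgroups of the quotient, `r ≠ 2, p`. -/
def Good (r a : ℕ) (R : Sylow r Q) : Prop :=
  (∀ x ∈ (R : Subgroup Q), ∀ y ∈ (R : Subgroup Q), x * y = y * x) ∧
  ∀ y ∈ (R : Subgroup Q), y ≠ 1 →
    (Nat.card (Subgroup.centralizer ({y} : Set Q)) = a ∨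
      Nat.card (Subgroup.centralizer ({y} : Set Q)) = 2 * a) ∧
    ∀ S : Subgroup Q, IsPGroup r S → S ≤ Subgroup.centralizer ({y} : Set Q) → S ≤ (R : Subgroup Q)

theorem exists_good {r : ℕ} [Fact r.Prime] (hr2 : r ≠ 2) (hrp : r ≠ p) {a : ℕ}
    (ha : a = e ∨ a = o) (hra : r ∣ a) : ∃ R : Sylow r Q, Good r a R := by
  classical
  have hr : r.Prime := Fact.out
  obtain ⟨hqe, hqo, heo, h2q, h2o⟩ := h.coprimes
  obtain ⟨he, ho⟩ := h.bounds
  have hq := h.q_pos
  have hr2' : ¬ r ∣ 2 := fun h' => hr2 ((Nat.prime_dvd_prime_iff_eq hr Nat.prime_two).mp h')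
  have hrq : ¬ r ∣ q := fun h' =>
    hrp ((Nat.prime_dvd_prime_iff_eq hr h.prime).mp (hr.dvd_of_dvd_pow (h.q_eq ▸ h')))
  have hside : ∀ w : G, w ∉ Subgroup.center G → r ∣ cb w → cb w = a ∨ cb w = 2 * a := by
    intro w hw hrw
    rcases ha with rfl | rfl
    · exact h.cb_of_e hw hr hra hrw
    · exact Or.inl (h.cb_of_o hw hr hra hrw)
  have hfull : ∀ w : G, w ∉ Subgroup.center G → r ∣ cb w → ¬ r ∣ (C w).index := by
    intro w hw hrw hdvd
    have h1 := cb_mul_index w
    rw [h.card_eq] at h1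
    have h2 : r ∣ 2 * q * (if a = e then o else e) := by
      have h3 : ∃ c, (c = 1 ∨ c = 2) ∧ cb w = c * a := by
        rcases hside w hw hrw with h' | h'
        · exact ⟨1, Or.inl rfl, by rw [h', one_mul]⟩
        · exact ⟨2, Or.inr rfl, h'⟩
      obtain ⟨c, hc, hcw⟩ := h3
      rw [hcw] at h1
      have h4 : c * (C w).index = 2 * q * (if a = e then o else e) := by
        refine Nat.eq_of_mul_eq_mul_left (show 0 < a by rcases ha with rfl | rfl <;> omega) ?_
        rw [← mul_assoc, mul_comm a c, h1]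
        split_ifs with hae
        · rw [hae]; ring
        · rw [ha.resolve_left hae]; ring
      exact h4 ▸ dvd_mul_of_dvd_right hdvd c
    rcases hr.dvd_mul.mp h2 with h3 | h3
    · exact (hr.dvd_mul.mp h3).elim hr2' hrq
    · split_ifs at h3 with hae
      · exact hr.one_lt.ne' (Nat.eq_one_of_dvd_coprimes heo (hae ▸ hra) h3)
      · exact hr.one_lt.ne' (Nat.eq_one_of_dvd_coprimes heo h3 ((ha.resolve_left hae) ▸ hra))
  have hcard : ∀ y : Q, y ≠ 1 → (∃ j, y ^ r ^ j = 1) →
      Nat.card (Subgroup.centralizer ({y} : Set Q)) = a ∨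
        Nat.card (Subgroup.centralizer ({y} : Set Q)) = 2 * a := by
    rintro y hy1 ⟨j, hy⟩
    obtain ⟨u, rfl, hu, ⟨i, hi⟩, hru⟩ := h.lift hr hy1 hy
    rw [h.centralizer_eq_of_not_dvd hr hi (hfull u hu hru), card_map_C]
    exact hside u hu hru
  have hpow : ∀ (S : Subgroup Q), IsPGroup r S → ∀ y ∈ S, ∃ j, y ^ r ^ j = 1 := fun S hS y hy => by
    obtain ⟨j, hj⟩ := hS ⟨y, hy⟩
    exact ⟨j, congrArg Subtype.val hj⟩
  by_cases hx : ∃ s : ℕ, ∃ x : G, s.Prime ∧ s ≠ r ∧ x ∉ Subgroup.center G ∧ (∃ i, x ^ s ^ i = 1) ∧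
      (cb x = a ∨ cb x = 2 * a)
  · obtain ⟨s, x, hs, hsr, hx, ⟨i, hi⟩, hcx⟩ := hx
    set K := (C x).map π with hK
    have hKcard : Nat.card K = cb x := card_map_C x
    have hrx : r ∣ cb x := by
      rcases hcx with h' | h' <;> rw [h']
      · exact hra
      · exact dvd_mul_of_dvd_right hra 2
    let R₀ : Sylow r K := default
    have hR₀ : Nat.card ((R₀ : Subgroup K).map K.subtype) = r ^ (Nat.card Q).factorization r := by
      rw [Subgroup.card_map_of_injective K.subtype_injective, R₀.card_eq_multiplicity, hKcard,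
        ← cb_mul_index x, Nat.factorization_mul (cb_pos x).ne' Subgroup.index_ne_zero_of_finite,
        Finsupp.add_apply, Nat.factorization_eq_zero_of_not_dvd (hfull x hx hrx), add_zero]
    let R : Sylow r Q := Sylow.ofCard _ hR₀
    have hRK : (R : Subgroup Q) ≤ K := Subgroup.map_subtype_le _
    -- squares of `K` centralise each element of `R`
    have hsq : ∀ y ∈ (R : Subgroup Q), y ≠ 1 → ∃ A : Subgroup Q, A ≤ K ∧
        A ≤ Subgroup.centralizer ({y} : Set Q) ∧ (Nat.card A = a ∨ Nat.card A = 2 * a) ∧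
        ∀ g ∈ K, g * g ∈ A := by
      intro y hy hy1
      obtain ⟨j, hj⟩ := hpow _ R.2 y hy
      obtain ⟨u, rfl, hu, ⟨l, hl⟩, -⟩ := h.lift hr hy1 hj
      have hux : Commute u x := by
        have h1 : u ∈ K.comap π := hRK hy
        rw [hK, Subgroup.comap_map_eq_self (by rw [QuotientGroup.ker_mk']; exact center_le x)] at h1
        exact Subgroup.mem_centralizer_singleton_iff.mp h1
      have hcop : Nat.Coprime (r ^ l) (s ^ i) :=
        Nat.Coprime.pow l i ((Nat.coprime_primes hr hs).mpr (Ne.symm hsr))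
      have h1 : C (u * x) ≤ C u := C_mul_le_of_coprime hux hl hi hcop
      have h2 : C (u * x) ≤ C x := by
        rw [hux.eq]; exact C_mul_le_of_coprime hux.symm hi hl hcop.symm
      have hne : u * x ∉ Subgroup.center G := fun h' => by
        have h3 : C u = ⊤ := top_le_iff.mp (le_of_eq_of_le
          (Subgroup.index_eq_one.mp (index_eq_one_iff.mpr h')).symm h1)
        exact hu (index_eq_one_iff.mp (Subgroup.index_eq_one.mpr h3))
      have huA : π u ∈ (C (u * x)).map π := ⟨u, Subgroup.mem_centralizer_singleton_iff.mpr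
        ((Commute.refl u).mul_right hux).eq, rfl⟩
      have hrA : r ∣ cb (u * x) := by
        rw [← card_map_C]
        obtain ⟨k, -, hk⟩ := (Nat.dvd_prime_pow hr).mp (orderOf_dvd_of_pow_eq_one hj)
        rcases Nat.eq_zero_or_pos k with rfl | hk0
        · exact absurd (orderOf_eq_one_iff.mp (by simpa using hk)) hy1
        · exact ((dvd_pow_self r hk0.ne').trans (hk.symm.trans (Subgroup.orderOf_coe
            (⟨π u, huA⟩ : ((C (u * x)).map π : Subgroup Q)))).dvd).trans (orderOf_dvd_natCard _)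
      have hc := hside _ hne hrA
      refine ⟨(C (u * x)).map π, Subgroup.map_mono h2, (Subgroup.map_mono h1).trans (map_C_le u),
        by rw [card_map_C]; exact hc, fun g hg => ?_⟩
      have hidx : (((C (u * x)).map π).subgroupOf K).index ∣ 2 := by
        have h3 := (((C (u * x)).map π).subgroupOf K).card_mul_index
        rw [Nat.card_congr (Subgroup.subgroupOfEquivOfLe (Subgroup.map_mono h2)).toEquiv, card_map_C,
          hKcard] at h3
        have h4 : cb (u * x) * (((C (u * x)).map π).subgroupOf K).index ∣ cb (u * x) * 2 := by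
          rw [h3]
          rcases hcx with h' | h' <;> rcases hc with h'' | h'' <;> rw [h', h'']
          · exact dvd_mul_right a 2
          · exact dvd_mul_of_dvd_left (dvd_mul_left a 2) 2
          · rw [mul_comm]
          · exact dvd_mul_right _ 2
        exact Nat.dvd_of_mul_dvd_mul_left (cb_pos _) h4
      rcases (Nat.dvd_prime Nat.prime_two).mp hidx with h' | h'
      · exact Subgroup.mem_subgroupOf.mp
          ((Subgroup.index_eq_one.mp h').symm ▸ Subgroup.mem_top ((⟨g, hg⟩ : K) * (⟨g, hg⟩ : K)))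
      · exact Subgroup.mem_subgroupOf.mp (Subgroup.mul_self_mem_of_index_two h' (⟨g, hg⟩ : K))
    have hodd : ∀ (S : Subgroup Q), IsPGroup r S → ∀ z ∈ S, ∃ w ∈ S, w * w = z := by
      intro S hS z hz
      obtain ⟨j, hj⟩ := hpow S hS z hz
      obtain ⟨m, hm⟩ : Odd (r ^ j) := (hr.odd_of_ne_two hr2).pow
      refine ⟨z ^ (m + 1), pow_mem hz _, ?_⟩
      rw [← pow_add, show m + 1 + (m + 1) = r ^ j + 1 by omega, pow_succ, hj, one_mul]
    have hcent : ∀ S : Subgroup Q, IsPGroup r S → S ≤ K → ∀ z ∈ S, ∀ y ∈ (R : Subgroup Q),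
        z * y = y * z := by
      intro S hS hSK z hz y hy
      by_cases hy1 : y = 1
      · rw [hy1, one_mul, mul_one]
      obtain ⟨w, hw, rfl⟩ := hodd S hS z hz
      obtain ⟨A, -, hAy, -, hAsq⟩ := hsq y hy hy1
      exact Subgroup.mem_centralizer_singleton_iff.mp (hAy (hAsq w (hSK hw)))
    have huniq : ∀ S : Subgroup Q, IsPGroup r S → S ≤ K → S ≤ (R : Subgroup Q) := by
      intro S hS hSK
      have hle : S ≤ Subgroup.normalizer ((R : Subgroup Q) : Set Q) := fun z hz =>
        Subgroup.centralizer_le_normalizer _ (fun y hy => (hcent S hS hSK z hz y hy).symm)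
      exact fun z hz => ((IsPGroup.inf_normalizer_sylow hS R).le ⟨hz, hle hz⟩).2
    refine ⟨R, fun z hz y hy => hcent _ R.2 hRK z hz y hy, fun y hy hy1 => ⟨hcard y hy1 (hpow _ R.2 y hy),
      fun S hS hSy => ?_⟩⟩
    obtain ⟨A, hAK, hAy, hAcard, -⟩ := hsq y hy hy1
    -- odd elements of the centraliser of `y` lie in `A`
    intro z hz
    obtain ⟨w, hw, rfl⟩ := hodd S hS z hz
    have hmem : w * w ∈ A := by
      have hidx : (A.subgroupOf (Subgroup.centralizer ({y} : Set Q))).index ∣ 2 := by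
        have h3 := (A.subgroupOf (Subgroup.centralizer ({y} : Set Q))).card_mul_index
        rw [Nat.card_congr (Subgroup.subgroupOfEquivOfLe hAy).toEquiv] at h3
        refine Nat.dvd_of_mul_dvd_mul_left (Nat.card_pos (α := A)) ?_
        rw [h3]
        rcases hcard y hy1 (hpow _ R.2 y hy) with h' | h' <;> rcases hAcard with h'' | h'' <;>
          rw [h', h'']
        · exact dvd_mul_right a 2
        · exact dvd_mul_of_dvd_left (dvd_mul_left a 2) 2
        · rw [mul_comm]
        · exact dvd_mul_right _ 2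
      rcases (Nat.dvd_prime Nat.prime_two).mp hidx with h' | h'
      · exact Subgroup.mem_subgroupOf.mp ((Subgroup.index_eq_one.mp h').symm ▸ Subgroup.mem_top
          ((⟨w, hSy hw⟩ : Subgroup.centralizer ({y} : Set Q)) *
            (⟨w, hSy hw⟩ : Subgroup.centralizer ({y} : Set Q))))
      · exact Subgroup.mem_subgroupOf.mp
          (Subgroup.mul_self_mem_of_index_two h' (⟨w, hSy hw⟩ : Subgroup.centralizer ({y} : Set Q)))
    refine huniq (Subgroup.zpowers (w * w)) (hS.to_le (Subgroup.zpowers_le.mpr hz)) ?_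
      (Subgroup.mem_zpowers _)
    exact Subgroup.zpowers_le.mpr (hAK hmem)
  -- otherwise `a = o` is a power of `r` and the Sylow subgroups are counted
  push_neg at hx
  haveI : Fact (Nat.Prime 2) := ⟨Nat.prime_two⟩
  have hao : a = o := by
    refine ha.resolve_left fun hae => ?_
    obtain ⟨y, hy⟩ := exists_prime_orderOf_dvd_card' (G := Q) 2 (by
      rw [h.card_eq]; exact dvd_mul_of_dvd_left (dvd_mul_of_dvd_left (dvd_mul_right 2 q) e) o)
    obtain ⟨u, -, hu, hui, hdu⟩ := h.lift Nat.prime_two (y := y) (fun h' => by simp [h'] at hy)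
      (j := 1) (by rw [pow_one, ← hy, pow_orderOf_eq_one])
    have := hx 2 u Nat.prime_two (Ne.symm hr2) hu hui
    rcases h.cb_of_e hu Nat.prime_two h.even hdu with h' | h'
    · exact this.1 (hae ▸ h')
    · exact this.2 (hae ▸ h')
  subst hao
  have hapow : ∀ s : ℕ, s.Prime → s ∣ a → s = r := by
    intro s hs hsa
    by_contra hsr
    haveI := Fact.mk hs
    obtain ⟨y, hy⟩ := exists_prime_orderOf_dvd_card' (G := Q) s (by
      rw [h.card_eq]; exact dvd_mul_of_dvd_right hsa _)
    obtain ⟨u, -, hu, hui, hdu⟩ := h.lift hs (y := y)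
      (fun h' => hs.one_lt.ne (by rw [← hy, h', orderOf_one]))
      (j := 1) (by rw [pow_one, ← hy, pow_orderOf_eq_one])
    exact (hx s u hs hsr hu hui).1 (h.cb_of_o hu hs hsa hdu)
  set k := (Nat.card Q).factorization r
  have hak : a = r ^ k := by
    have h1 := Nat.eq_prime_pow_of_unique_prime_dvd (show a ≠ 0 by omega)
      (fun {s} hs hsa => hapow s hs hsa)
    have h2 : k = a.factorization r := by
      show (Nat.card Q).factorization r = _
      rw [h.card_eq, Nat.factorization_mul (by positivity) (by omega), Finsupp.add_apply,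
        Nat.factorization_eq_zero_of_not_dvd (fun h' => ?_), zero_add]
      rcases hr.dvd_mul.mp h' with h3 | h3
      · exact (hr.dvd_mul.mp h3).elim hr2' hrq
      · exact hr.one_lt.ne' (Nat.eq_one_of_dvd_coprimes heo h3 hra)
    rw [h2]
    conv_rhs => rw [h1, hr.factorization_pow, Finsupp.single_eq_same]
    exact h1
  let R : Sylow r Q := default
  have hScard : ∀ S : Sylow r Q, Nat.card S = a := fun S => by rw [S.card_eq_multiplicity, hak]
  -- each element of `r`-power order is central in exactly one Sylow subgroup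
  let X := {x : Q | x ≠ 1 ∧ orderOf x ∣ a}
  have hXc : ∀ x ∈ X, Nat.card (Subgroup.centralizer ({x} : Set Q)) = r ^ k := by
    intro x hx'
    obtain ⟨u, rfl, hu, ⟨i, hi⟩, hru⟩ := h.lift hr hx'.1 (j := k)
      (orderOf_dvd_iff_pow_eq_one.mp (hak ▸ hx'.2))
    rw [h.centralizer_eq_of_not_dvd hr hi (hfull u hu hru), card_map_C, h.cb_of_o hu hr hra hru, hak]
  let Z : Sylow r Q → Set Q := fun S =>
    {x : Q | x ∈ (S : Subgroup Q) ∧ x ≠ 1 ∧ ∀ y ∈ (S : Subgroup Q), y * x = x * y}
  let Φ : X ≃ Σ S : Sylow r Q, Z S :=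
    { toFun := fun x => ⟨Sylow.ofCard _ (hXc x x.2), ⟨x, Subgroup.mem_centralizer_singleton_iff.mpr rfl,
        x.2.1, fun y hy => Subgroup.mem_centralizer_singleton_iff.mp hy⟩⟩
      invFun := fun s => ⟨s.2.1, s.2.2.2.1, by
        rw [← hScard s.1]
        exact ((Subgroup.orderOf_coe (⟨_, s.2.2.1⟩ : (s.1 : Subgroup Q))).dvd.trans
          (orderOf_dvd_natCard _))⟩
      left_inv := fun x => rfl
      right_inv := by
        rintro ⟨S, x, hxS, hx1, hxc⟩
        have hxX : x ∈ X := ⟨hx1, by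
          rw [← hScard S]
          exact (Subgroup.orderOf_coe (⟨_, hxS⟩ : (S : Subgroup Q))).dvd.trans (orderOf_dvd_natCard _)⟩
        have hS : Sylow.ofCard _ (hXc x hxX) = S := by
          refine Sylow.ext (Subgroup.eq_of_le_of_card_ge (fun y hy =>
            Subgroup.mem_centralizer_singleton_iff.mpr (hxc y hy)) ?_).symm
          exact (hXc x hxX).trans (S.card_eq_multiplicity).symm |>.le
        exact Sigma.subtype_ext hS rfl }
  have hconj : ∀ S : Sylow r Q, Nat.card (Z S) = Nat.card (Z R) := by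
    intro S
    obtain ⟨g, rfl⟩ := MulAction.exists_smul_eq Q R S
    have key : ∀ x, x ∈ Z (g • R) ↔ g⁻¹ * x * g ∈ Z R := by
      intro x
      have hmem : ∀ w, w ∈ ((g • R : Sylow r Q) : Subgroup Q) ↔ g⁻¹ * w * g ∈ (R : Subgroup Q) := by
        intro w
        rw [Sylow.coe_subgroup_smul, Subgroup.mem_pointwise_smul_iff_inv_smul_mem]
        simp [MulAut.smul_def, mul_assoc]
      constructor
      · rintro ⟨h1, h2, h3⟩
        refine ⟨(hmem x).mp h1, fun h' => h2 ?_, fun y hy => ?_⟩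
        · have := congrArg (fun w => g * w * g⁻¹) h'
          simpa [mul_assoc] using this
        · have h4 := h3 (g * y * g⁻¹) ((hmem _).mpr (by simpa [mul_assoc] using hy))
          calc y * (g⁻¹ * x * g) = g⁻¹ * (g * y * g⁻¹ * x) * g := by group
            _ = g⁻¹ * (x * (g * y * g⁻¹)) * g := by rw [h4]
            _ = g⁻¹ * x * g * y := by group
      · rintro ⟨h1, h2, h3⟩
        refine ⟨(hmem x).mpr h1, fun h' => h2 (by rw [h']; group), fun y hy => ?_⟩
        have h4 := h3 _ ((hmem y).mp hy)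
        calc y * x = g * (g⁻¹ * y * g * (g⁻¹ * x * g)) * g⁻¹ := by group
          _ = g * (g⁻¹ * x * g * (g⁻¹ * y * g)) * g⁻¹ := by rw [h4]
          _ = x * y := by group
    exact Nat.card_congr
      { toFun := fun x => ⟨g⁻¹ * x * g, (key x).mp x.2⟩
        invFun := fun x => ⟨g * x * g⁻¹, (key _).mpr (by
          rw [show g⁻¹ * (g * x * g⁻¹) * g = (x : Q) by group]; exact x.2)⟩
        left_inv := fun x => Subtype.ext (by group)
        right_inv := fun x => Subtype.ext (by group) }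
  have hcnt : (a - 1) * (q * e) = Nat.card (Sylow r Q) * Nat.card (Z R) := by
    haveI : Fintype (Sylow r Q) := Fintype.ofFinite _
    rw [← h.card_orderOf_dvd_o, Nat.card_congr Φ, Nat.card_sigma, Finset.sum_congr rfl fun S _ => hconj S,
      Finset.sum_const, smul_eq_mul, Finset.card_univ, ← Nat.card_eq_fintype_card]
  have hcomm : ∀ x ∈ (R : Subgroup Q), ∀ y ∈ (R : Subgroup Q), x * y = y * x := by
    by_contra hnc
    push_neg at hnc
    obtain ⟨x₀, hx₀, y₀, hy₀, hne⟩ := hnc
    set c := Nat.card (Subgroup.center (R : Subgroup Q))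
    have hZc : Nat.card (Z R) = c - 1 := by
      haveI : Fintype (Subgroup.center (R : Subgroup Q)) := Fintype.ofFinite _
      rw [show c = _ from Nat.card_eq_fintype_card]
      rw [← Fintype.card_subtype_eq (1 : Subgroup.center (R : Subgroup Q)),
        ← Fintype.card_subtype_compl, ← Nat.card_eq_fintype_card]
      exact Nat.card_congr
        { toFun := fun x => ⟨⟨⟨x.1, x.2.1⟩, Subgroup.mem_center_iff.mpr fun y =>
            Subtype.ext (x.2.2.2 y y.2)⟩, fun h' => x.2.2.1
              (congrArg (fun w : Subgroup.center (R : Subgroup Q) => ((w : (R : Subgroup Q)) : Q)) h')⟩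
          invFun := fun w => ⟨((w.1 : (R : Subgroup Q)) : Q), (w.1 : (R : Subgroup Q)).2,
            fun h' => w.2 (Subtype.ext (Subtype.ext h')), fun y hy =>
              congrArg Subtype.val (Subgroup.mem_center_iff.mp w.1.2 ⟨y, hy⟩)⟩
          left_inv := fun x => rfl
          right_inv := fun w => rfl }
    have hidx := (Subgroup.center (R : Subgroup Q)).card_mul_index
    rw [hScard R] at hidx
    have hi3 : 3 ≤ (Subgroup.center (R : Subgroup Q)).index := by
      obtain ⟨l, -, hl⟩ := (Nat.dvd_prime_pow hr).mp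
        (show (Subgroup.center (R : Subgroup Q)).index ∣ r ^ k from hak ▸ Dvd.intro_left _ hidx)
      rcases Nat.eq_zero_or_pos l with rfl | hl0
      · refine absurd ?_ hne
        have htop := Subgroup.index_eq_one.mp (show (Subgroup.center (R : Subgroup Q)).index = 1 by
          simpa using hl)
        exact congrArg Subtype.val (Subgroup.mem_center_iff.mp
          (htop.symm ▸ Subgroup.mem_top (⟨y₀, hy₀⟩ : (R : Subgroup Q))) ⟨x₀, hx₀⟩)
      · have h3 : 3 ≤ r := by have := hr.two_le; omega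
        rw [hl]
        exact h3.trans (Nat.le_self_pow hl0.ne' r)
    have h3c : c * 3 ≤ a := hidx ▸ Nat.mul_le_mul_left c hi3
    -- the number of Sylow subgroups divides `2 q e`
    obtain ⟨w, hw⟩ : Nat.card (Sylow r Q) ∣ 2 * (q * e) := by
      refine R.card_dvd_index.trans ?_
      have h1 := (R : Subgroup Q).card_mul_index
      rw [hScard R, h.card_eq] at h1
      exact (Nat.eq_of_mul_eq_mul_left (show 0 < a by omega)
        (h1.trans (by ring : 2 * q * e * a = a * (2 * (q * e))))).dvd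
    have h5 : (a - 1) * w = 2 * (c - 1) := by
      refine Nat.eq_of_mul_eq_mul_left (Nat.card_pos (α := Sylow r Q)) ?_
      rw [hZc] at hcnt
      calc Nat.card (Sylow r Q) * ((a - 1) * w) = (a - 1) * (Nat.card (Sylow r Q) * w) := by ring
        _ = 2 * ((a - 1) * (q * e)) := by rw [← hw]; ring
        _ = _ := by rw [hcnt]; ring
    have hw0 : 1 ≤ w := by
      rcases Nat.eq_zero_or_pos w with rfl | hw0
      · rw [mul_zero] at hw; have : 0 < 2 * (q * e) := by positivity
        omega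
      · exact hw0
    have h6 : (a - 1) * 1 ≤ (a - 1) * w := Nat.mul_le_mul_left _ hw0
    omega
  refine ⟨R, hcomm, fun y hy hy1 => ⟨hcard y hy1 (hpow _ R.2 y hy), fun S hS hSy => ?_⟩⟩
  have hyX : y ∈ X := ⟨hy1, by
    rw [← hScard R]
    exact (Subgroup.orderOf_coe (⟨_, hy⟩ : (R : Subgroup Q))).dvd.trans (orderOf_dvd_natCard _)⟩
  have hR : (R : Subgroup Q) = Subgroup.centralizer ({y} : Set Q) :=
    Subgroup.eq_of_le_of_card_ge (fun z hz =>
      Subgroup.mem_centralizer_singleton_iff.mpr (hcomm z hz y hy))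
      ((hXc y hyX).trans (R.card_eq_multiplicity).symm).le
  exact hR ▸ hSy

end OddHyp

end CfsgLib.PSL2Sizes
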