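import Cfsg.Agent.Lib.PSL2Sizes.Odd
import Cfsg.Agent.Lib.PSL2Spec.Main

/-!
# The quotient by the centre is `PSL₂(q)`, `q` odd
-/

set_option autoImplicit false
set_option linter.unusedSectionVars false
set_option linter.style.haveILetI false

namespace CfsgLib.PSL2Sizes

variable {G : Type*} [Group G] [Finite G]

local notation "Q" => G ⧸ Subgroup.center G

namespace OddHyp

variable {p f q e o : ℕ} (h : OddHyp G p f q e o)
include h

theorem good_conj {r a : ℕ} [Fact r.Prime] {R : Sylow r Q} (hR : Good r a R) (g : Q) :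
    Good r a (g • R) := by
  have hmem : ∀ w, w ∈ ((g • R : Sylow r Q) : Subgroup Q) ↔ g⁻¹ * w * g ∈ (R : Subgroup Q) := by
    intro w
    rw [Sylow.coe_subgroup_smul, Subgroup.mem_pointwise_smul_iff_inv_smul_mem]
    simp [MulAut.smul_def, mul_assoc]
  refine ⟨fun x hx y hy => ?_, fun y hy hy1 => ?_⟩
  · have h1 := hR.1 _ ((hmem x).mp hx) _ ((hmem y).mp hy)
    calc x * y = g * (g⁻¹ * x * g * (g⁻¹ * y * g)) * g⁻¹ := by group
      _ = g * (g⁻¹ * y * g * (g⁻¹ * x * g)) * g⁻¹ := by rw [h1]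
      _ = y * x := by group
  · have hy1' : g⁻¹ * y * g ≠ 1 := fun h' => hy1 (by
      calc y = g * (g⁻¹ * y * g) * g⁻¹ := by group
        _ = 1 := by rw [h']; group)
    obtain ⟨h1, h2⟩ := hR.2 _ ((hmem y).mp hy) hy1'
    have hC : Subgroup.centralizer ({y} : Set Q) =
        (Subgroup.centralizer ({g⁻¹ * y * g} : Set Q)).map (MulAut.conj g).toMonoidHom := by
      ext z
      rw [Subgroup.mem_map_equiv, Subgroup.mem_centralizer_singleton_iff,
        Subgroup.mem_centralizer_singleton_iff, MulAut.conj_symm_apply]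
      constructor
      · intro hz
        calc g⁻¹ * z * g * (g⁻¹ * y * g) = g⁻¹ * (z * y) * g := by group
          _ = g⁻¹ * (y * z) * g := by rw [hz]
          _ = g⁻¹ * y * g * (g⁻¹ * z * g) := by group
      · intro hz
        calc z * y = g * (g⁻¹ * z * g * (g⁻¹ * y * g)) * g⁻¹ := by group
          _ = g * (g⁻¹ * y * g * (g⁻¹ * z * g)) * g⁻¹ := by rw [hz]
          _ = y * z := by group
    refine ⟨?_, fun S hS hSy z hz => ?_⟩
    · rw [hC, Subgroup.card_map_of_injective (MulAut.conj g).injective]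
      exact h1
    · rw [hmem]
      have h3 := h2 (S.map (MulAut.conj g⁻¹).toMonoidHom) (hS.map _) ?_ ⟨z, hz, rfl⟩
      · simpa using h3
      · rintro _ ⟨w, hw, rfl⟩
        have := hSy hw
        rw [Subgroup.mem_centralizer_singleton_iff] at this ⊢
        show g⁻¹ * w * g⁻¹⁻¹ * (g⁻¹ * y * g) = g⁻¹ * y * g * (g⁻¹ * w * g⁻¹⁻¹)
        calc g⁻¹ * w * g⁻¹⁻¹ * (g⁻¹ * y * g) = g⁻¹ * (w * y) * g := by group
          _ = g⁻¹ * (y * w) * g := by rw [this]
          _ = g⁻¹ * y * g * (g⁻¹ * w * g⁻¹⁻¹) := by group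

theorem sq_mem_centralizer (r : ℕ) (hr : r.Prime) (hr2 : r ≠ 2) (hrp : r ≠ p) (R₀ : Subgroup Q)
    (hR₀ : IsPGroup r R₀) (hR₀ne : R₀ ≠ ⊥) (x : Q) (hx : x ∈ Subgroup.normalizer (R₀ : Set Q)) :
    x * x ∈ Subgroup.centralizer (R₀ : Set Q) := by
  classical
  haveI := Fact.mk hr
  obtain ⟨hqe, hqo, heo, h2q, h2o⟩ := h.coprimes
  obtain ⟨he, ho⟩ := h.bounds
  obtain ⟨y₀, hy₀, hy₀1⟩ : ∃ y ∈ R₀, y ≠ 1 := by
    by_contra! h'
    exact hR₀ne ((Subgroup.eq_bot_iff_forall _).mpr h')
  have hrn : r ∣ Nat.card Q := by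
    obtain ⟨j, hj⟩ := hR₀ ⟨y₀, hy₀⟩
    obtain ⟨l, -, hl⟩ := (Nat.dvd_prime_pow hr).mp
      (orderOf_dvd_of_pow_eq_one (congrArg Subtype.val hj : y₀ ^ r ^ j = 1))
    rcases Nat.eq_zero_or_pos l with rfl | hl0
    · exact absurd (orderOf_eq_one_iff.mp (by simpa using hl)) hy₀1
    · exact ((dvd_pow_self r hl0.ne').trans hl.symm.dvd).trans (orderOf_dvd_natCard y₀)
  obtain ⟨a, b, ha, hra, hab, hprod, hcard⟩ : ∃ a b, (a = e ∨ a = o) ∧ r ∣ a ∧ a + b = q ∧
      4 * (a * b) + 1 = q ^ 2 ∧ Nat.card Q = 2 * q * b * a := by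
    rcases h.odd_prime_cases hr hr2 hrp hrn with h' | h'
    · exact ⟨e, o, Or.inl rfl, h', h.sum, h.prod, by rw [h.card_eq]; ring⟩
    · exact ⟨o, e, Or.inr rfl, h', (add_comm o e).trans h.sum, by rw [mul_comm o e]; exact h.prod,
        h.card_eq⟩
  obtain ⟨R₁, hR₁⟩ := h.exists_good hr2 hrp ha hra
  obtain ⟨R, hR₀R⟩ := hR₀.exists_le_sylow
  have hR : Good r a R := by
    obtain ⟨g, rfl⟩ := MulAction.exists_smul_eq Q R₁ R
    exact h.good_conj hR₁ g
  set N := Subgroup.normalizer ((R : Subgroup Q) : Set Q)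
  -- centralisers of elements of `R` normalise `R`
  have hCN : ∀ y ∈ (R : Subgroup Q), y ≠ 1 → Subgroup.centralizer ({y} : Set Q) ≤ N := by
    intro y hy hy1 g hg
    have h1 : (R : Subgroup Q).map (MulAut.conj g).toMonoidHom ≤ (R : Subgroup Q) := by
      refine (hR.2 y hy hy1).2 _ (R.2.map _) ?_
      rintro _ ⟨w, hw, rfl⟩
      have hwy : w ∈ Subgroup.centralizer ({y} : Set Q) :=
        Subgroup.mem_centralizer_singleton_iff.mpr (hR.1 w hw y hy)
      exact mul_mem (mul_mem hg hwy) (inv_mem hg)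
    have h2 : (R : Subgroup Q).map (MulAut.conj g).toMonoidHom = (R : Subgroup Q) :=
      Subgroup.eq_of_le_of_card_ge h1 (Subgroup.card_map_of_injective (MulAut.conj g).injective).ge
    rw [Subgroup.mem_normalizer_iff]
    refine fun w => ⟨fun hw => h2.le ⟨w, hw, rfl⟩, fun hw => ?_⟩
    obtain ⟨v, hv, hve⟩ := h2.ge hw
    have hve' : g * v * g⁻¹ = g * w * g⁻¹ := hve
    rwa [← mul_left_cancel (mul_right_cancel hve')]
  have hRne : ∃ y ∈ (R : Subgroup Q), y ≠ 1 := ⟨y₀, hR₀R hy₀, hy₀1⟩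
  set k := (Nat.card Q).factorization r
  have hRcard : Nat.card R = r ^ k := R.card_eq_multiplicity
  have hrk : 3 ≤ r ^ k := by
    have h3 : 3 ≤ r := by have := hr.two_le; omega
    exact h3.trans (Nat.le_self_pow (hr.factorization_pos_of_dvd Nat.card_pos.ne' hrn).ne' r)
  -- the number of Sylow subgroups is congruent to one modulo `r ^ k`
  have hn : r ^ k ∣ Nat.card (Sylow r Q) - 1 := by
    let X := {S : Sylow r Q // S ≠ R}
    letI : MulAction (R : Subgroup Q) X :=
      { smul := fun u S => ⟨(u : Q) • S.1, fun h' => S.2 (by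
          have h1 : (u : Q)⁻¹ • R = R := Sylow.smul_eq_iff_mem_normalizer.mpr
            (Subgroup.le_normalizer (inv_mem u.2))
          exact (inv_smul_smul (u : Q) S.1).symm.trans ((congrArg _ h').trans h1))⟩
        one_smul := fun S => Subtype.ext (one_smul Q S.1)
        mul_smul := fun u v S => Subtype.ext (mul_smul (u : Q) v S.1) }
    have h1 := PSL2Spec.card_dvd_of_free (H := (R : Subgroup Q)) (X := X) fun u S hu => by
      by_contra hu1
      have hu1' : (u : Q) ≠ 1 := fun h' => hu1 (Subtype.ext h')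
      have huS : (u : Q) ∈ (S.1 : Subgroup Q) := by
        have hz : IsPGroup r (Subgroup.zpowers (u : Q)) := R.2.to_le (Subgroup.zpowers_le.mpr u.2)
        exact ((IsPGroup.inf_normalizer_sylow hz S.1).le ⟨Subgroup.mem_zpowers _,
          Sylow.smul_eq_iff_mem_normalizer.mp (congrArg Subtype.val hu)⟩).2
      obtain ⟨g, hg⟩ := MulAction.exists_smul_eq Q R S.1
      have hSab : ∀ w ∈ (S.1 : Subgroup Q), w * (u : Q) = (u : Q) * w := by
        intro w hw
        have h2 := (h.good_conj hR g).1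
        rw [hg] at h2
        exact h2 w hw _ huS
      have hle : (S.1 : Subgroup Q) ≤ (R : Subgroup Q) := (hR.2 _ u.2 hu1').2 _ S.1.2
        fun w hw => Subgroup.mem_centralizer_singleton_iff.mpr (hSab w hw)
      exact S.2 (Sylow.ext (Subgroup.eq_of_le_of_card_ge hle
        (R.card_eq_multiplicity.trans S.1.card_eq_multiplicity.symm).le))
    rw [hRcard] at h1
    haveI : Fintype (Sylow r Q) := Fintype.ofFinite _
    rwa [Nat.card_eq_fintype_card, Fintype.card_subtype_compl, Fintype.card_subtype_eq,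
      ← Nat.card_eq_fintype_card] at h1
  -- the index of a centraliser in the normaliser is less than `r ^ k`
  have horb : ∀ y ∈ (R : Subgroup Q), y ≠ 1 →
      ((Subgroup.centralizer ({y} : Set Q)).subgroupOf N).index ≤ r ^ k - 1 := by
    intro y hy hy1
    let ψ : N ⧸ (Subgroup.centralizer ({y} : Set Q)).subgroupOf N → {z : (R : Subgroup Q) // z ≠ 1} :=
      Quotient.lift (fun g : N => ⟨⟨(g : Q) * y * (g : Q)⁻¹,
          (Subgroup.mem_normalizer_iff.mp g.2 y).mp hy⟩, fun h' => hy1 (by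
            have h1 : (g : Q) * y * (g : Q)⁻¹ = 1 := congrArg Subtype.val h'
            rwa [mul_inv_eq_one, mul_eq_left] at h1)⟩)
        (fun u v huv => by
          have h1 := Subgroup.mem_subgroupOf.mp (QuotientGroup.leftRel_apply.mp huv)
          rw [Subgroup.mem_centralizer_singleton_iff, Subgroup.coe_mul, Subgroup.coe_inv] at h1
          apply Subtype.ext; apply Subtype.ext
          show (u : Q) * y * (u : Q)⁻¹ = (v : Q) * y * (v : Q)⁻¹
          calc (u : Q) * y * (u : Q)⁻¹ = u * (y * ((u:Q)⁻¹ * v)) * (v:Q)⁻¹ := by group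
            _ = u * (((u:Q)⁻¹ * v) * y) * (v:Q)⁻¹ := by rw [h1]
            _ = (v : Q) * y * (v : Q)⁻¹ := by group)
    have hψ : Function.Injective ψ := by
      intro u v
      refine Quotient.inductionOn₂ u v fun u v huv => Quotient.sound ?_
      refine QuotientGroup.leftRel_apply.mpr (Subgroup.mem_subgroupOf.mpr
        (Subgroup.mem_centralizer_singleton_iff.mpr ?_))
      have h1 : (u : Q) * y * (u : Q)⁻¹ = (v : Q) * y * (v : Q)⁻¹ :=
        congrArg (fun w : {z : (R : Subgroup Q) // z ≠ 1} => ((w.1 : (R : Subgroup Q)) : Q)) huv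
      rw [Subgroup.coe_mul, Subgroup.coe_inv]
      calc (u:Q)⁻¹ * v * y = (u:Q)⁻¹ * (v * y * (v:Q)⁻¹) * v := by group
        _ = (u:Q)⁻¹ * (u * y * (u:Q)⁻¹) * v := by rw [h1]
        _ = y * ((u:Q)⁻¹ * v) := by group
    haveI : Fintype (R : Subgroup Q) := Fintype.ofFinite _
    refine (Nat.card_le_card_of_injective ψ hψ).trans_eq ?_
    rw [Nat.card_eq_fintype_card, Fintype.card_subtype_compl, Fintype.card_subtype_eq,
      ← Nat.card_eq_fintype_card, hRcard]
  have hmul : ∀ y ∈ (R : Subgroup Q), y ≠ 1 → Nat.card N =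
      Nat.card (Subgroup.centralizer ({y} : Set Q)) *
        ((Subgroup.centralizer ({y} : Set Q)).subgroupOf N).index := by
    intro y hy hy1
    rw [← ((Subgroup.centralizer ({y} : Set Q)).subgroupOf N).card_mul_index,
      Nat.card_congr (Subgroup.subgroupOfEquivOfLe (hCN y hy hy1)).toEquiv]
  have hapos : 0 < a := by rcases ha with rfl | rfl <;> omega
  obtain ⟨w, hw⟩ : a ∣ Nat.card N := by
    obtain ⟨y, hy, hy1⟩ := hRne
    rw [hmul y hy hy1]
    refine dvd_mul_of_dvd_left ?_ _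
    rcases (hR.2 y hy hy1).1 with h' | h' <;> rw [h']
    exact dvd_mul_left a 2
  have hnw : Nat.card (Sylow r Q) * w = 2 * q * b := by
    have h1 := N.index_mul_card
    rw [show N.index = Nat.card (Sylow r Q) from (Sylow.card_eq_index_normalizer R).symm, hw,
      hcard] at h1
    exact Nat.eq_of_mul_eq_mul_right hapos (by rw [← h1]; ring)
  -- `w` is `2`
  have hw2 : w = 2 := by
    obtain ⟨y, hy, hy1⟩ := hRne
    have h1 := horb y hy hy1
    have h2 := hmul y hy hy1
    set idx := ((Subgroup.centralizer ({y} : Set Q)).subgroupOf N).index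
    have hwle : w ≤ 2 * (r ^ k - 1) ∧ (Odd w → w ≤ r ^ k - 1) := by
      rcases (hR.2 y hy hy1).1 with h' | h' <;> rw [h', hw] at h2
      · have := Nat.eq_of_mul_eq_mul_left hapos h2
        omega
      · have h3 : w = 2 * idx := Nat.eq_of_mul_eq_mul_left hapos (by rw [h2]; ring)
        exact ⟨by omega, fun ho' => absurd ⟨idx, by omega⟩ (Nat.not_even_iff_odd.mpr ho')⟩
    have hmod : (r ^ k : ℤ) ∣ (w : ℤ) - 2 := by
      obtain ⟨t, ht⟩ := hn
      have hn1 : Nat.card (Sylow r Q) = 1 + r ^ k * t := by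
        have := Nat.card_pos (α := Sylow r Q); omega
      rw [hn1] at hnw
      have hka : r ^ k ∣ a := by
        have hd : r ^ k ∣ 2 * q * b * a := hcard ▸ Nat.ordProj_dvd (Nat.card Q) r
        refine Nat.Coprime.dvd_of_dvd_mul_left (Nat.Coprime.pow_left _
          (hr.coprime_iff_not_dvd.mpr fun h' => ?_)) hd
        rcases hr.dvd_mul.mp h' with h3 | h3
        · rcases hr.dvd_mul.mp h3 with h4 | h4
          · exact hr2 ((Nat.prime_dvd_prime_iff_eq hr Nat.prime_two).mp h4)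
          · exact hrp ((Nat.prime_dvd_prime_iff_eq hr h.prime).mp
              (hr.dvd_of_dvd_pow (h.q_eq ▸ h4)))
        · have h5 : r ∣ q := hab ▸ dvd_add hra h3
          exact hrp ((Nat.prime_dvd_prime_iff_eq hr h.prime).mp
            (hr.dvd_of_dvd_pow (h.q_eq ▸ h5)))
      obtain ⟨c, hc⟩ := hka
      have e1 : (1 + (r:ℤ) ^ k * t) * w = 2 * q * b := by exact_mod_cast hnw
      have e2 : (a : ℤ) = (r:ℤ) ^ k * c := by exact_mod_cast hc
      have e3 : (a : ℤ) + b = q := by exact_mod_cast hab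
      have e4 : (4 : ℤ) * (a * b) + 1 = q ^ 2 := by exact_mod_cast hprod
      refine ⟨2 * c * (4 * b - q) - t * w, ?_⟩
      rw [show (b : ℤ) = q - a by linarith] at e1 e4 ⊢
      rw [e2] at e1 e4 ⊢
      linarith
    obtain ⟨c, hc⟩ := hmod
    have hrk' : (3 : ℤ) ≤ (r:ℤ) ^ k := by exact_mod_cast hrk
    have hw0 : 0 < w := by
      rcases Nat.eq_zero_or_pos w with rfl | hw0
      · rw [mul_zero] at hw; exact absurd hw Nat.card_pos.ne'
      · exact hw0
    have hle : (w : ℤ) ≤ 2 * ((r:ℤ) ^ k - 1) := by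
      have h3 := hwle.1
      have : ((r ^ k - 1 : ℕ) : ℤ) = (r:ℤ) ^ k - 1 := by
        rw [Nat.cast_sub (by omega)]; push_cast; ring
      rw [← this]; exact_mod_cast h3
    have hc0 : 0 ≤ c := by
      by_contra hneg
      have : (r:ℤ) ^ k * c ≤ (r:ℤ) ^ k * (-1) := mul_le_mul_of_nonneg_left (by omega) (by linarith)
      omega
    have hc1 : c ≤ 1 := by
      by_contra hbig
      have : (r:ℤ) ^ k * 2 ≤ (r:ℤ) ^ k * c := mul_le_mul_of_nonneg_left (by omega) (by linarith)
      omega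
    rcases (show c = 0 ∨ c = 1 by omega) with rfl | rfl
    · omega
    · exfalso
      have hwk : w = r ^ k + 2 := by
        have : ((w : ℤ)) = ((r ^ k + 2 : ℕ) : ℤ) := by push_cast; linarith
        exact_mod_cast this
      obtain ⟨m, hm⟩ : Odd (r ^ k) := (hr.odd_of_ne_two hr2).pow
      have := hwle.2 ⟨m + 1, by omega⟩
      omega
  have hsq : ∀ g ∈ N, g * g ∈ Subgroup.centralizer ((R : Subgroup Q) : Set Q) := by
    intro g hg y hy
    by_cases hy1 : y = 1
    · rw [hy1, one_mul, mul_one]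
    have h2 := hmul y hy hy1
    set idx := ((Subgroup.centralizer ({y} : Set Q)).subgroupOf N).index
    have hidx : idx ∣ 2 := by
      rcases (hR.2 y hy hy1).1 with h' | h' <;> rw [h', hw, hw2] at h2
      · exact (Nat.eq_of_mul_eq_mul_left hapos h2).symm.dvd
      · have h3 : 2 = 2 * idx := Nat.eq_of_mul_eq_mul_left hapos (by rw [h2]; ring)
        exact ⟨2, by omega⟩
    have h3 : (⟨g, hg⟩ : N) * ⟨g, hg⟩ ∈ (Subgroup.centralizer ({y} : Set Q)).subgroupOf N := by
      rcases (Nat.dvd_prime Nat.prime_two).mp hidx with h' | h'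
      · rw [Subgroup.index_eq_one.mp h']; trivial
      · exact Subgroup.mul_self_mem_of_index_two h' _
    exact (Subgroup.mem_centralizer_singleton_iff.mp (Subgroup.mem_subgroupOf.mp h3)).symm
  -- descend to `R₀`
  have hxN : x ∈ N := by
    have h1 : (R : Subgroup Q).map (MulAut.conj x).toMonoidHom ≤ (R : Subgroup Q) := by
      refine (hR.2 y₀ (hR₀R hy₀) hy₀1).2 _ (R.2.map _) ?_
      rintro _ ⟨w', hw', rfl⟩
      rw [Subgroup.mem_centralizer_singleton_iff]
      show x * w' * x⁻¹ * y₀ = y₀ * (x * w' * x⁻¹)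
      have hb : x⁻¹ * y₀ * x ∈ R₀ := (Subgroup.mem_normalizer_iff''.mp hx y₀).mp hy₀
      have := hR.1 w' hw' _ (hR₀R hb)
      calc x * w' * x⁻¹ * y₀ = x * (w' * (x⁻¹ * y₀ * x)) * x⁻¹ := by group
        _ = x * ((x⁻¹ * y₀ * x) * w') * x⁻¹ := by rw [this]
        _ = y₀ * (x * w' * x⁻¹) := by group
    have h2 : (R : Subgroup Q).map (MulAut.conj x).toMonoidHom = (R : Subgroup Q) :=
      Subgroup.eq_of_le_of_card_ge h1 (Subgroup.card_map_of_injective (MulAut.conj x).injective).ge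
    rw [Subgroup.mem_normalizer_iff]
    refine fun v => ⟨fun hv => h2.le ⟨v, hv, rfl⟩, fun hv => ?_⟩
    obtain ⟨u, hu, hue⟩ := h2.ge hv
    have hue' : x * u * x⁻¹ = x * v * x⁻¹ := hue
    rwa [← mul_left_cancel (mul_right_cancel hue')]
  exact fun y hy => hsq x hxN y (hR₀R hy)

theorem toLoc : PSL2Spec.Loc Q p f q e o where
  prime := h.prime
  p_ne_two := h.p_ne_two
  q_eq := h.q_eq
  five_le := by have := h.seven_le; omega
  two_le_e := by have := h.bounds; omega
  one_lt := by have := h.bounds; omega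
  prod := h.prod
  card := h.card_eq
  isPGroup_centralizer := fun y hy ⟨k, hk⟩ => IsPGroup.of_card (n := f) (by
    rw [h.card_centralizer_of_p hy (j := k) (by rw [← hk, pow_orderOf_eq_one]), ← h.q_eq])
  sq_mem_centralizer := h.sq_mem_centralizer
  centralizer_involution_le := fun i hi =>
    Nat.le_of_dvd (by have := h.bounds; omega) (h.card_centralizer_of_two hi)

theorem nonempty_equiv {F : Type*} [Field F] [Fintype F] (hF : Fintype.card F = q) :
    Nonempty (Q ≃* Matrix.ProjectiveSpecialLinearGroup (Fin 2) F) := by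
  obtain ⟨K, iK, fK, hK, ⟨φ⟩⟩ := h.toLoc.nonempty_equiv
  obtain ⟨ψ⟩ := PSL2Spec.nonempty_psl_equiv_of_card_eq (K := K) (F := F) (hK.trans hF.symm)
  exact ⟨φ.trans ψ⟩

end OddHyp

/-- The hypothesis `OddHyp` from the class sizes of `PSL₂(F)`. -/
theorem exists_oddHyp {F : Type*} [Field F] [Fintype F] (hodd : ¬ 2 ∣ Fintype.card F)
    (h7 : 7 ≤ Fintype.card F)
    (hsz : Set.range (fun g : G => (C g).index) =
      {1, (Fintype.card F ^ 2 - 1) / 2,
        (if Fintype.card F % 4 = 1 then Fintype.card F * (Fintype.card F + 1) / 2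
          else Fintype.card F * (Fintype.card F - 1) / 2),
        Fintype.card F * (Fintype.card F - 1), Fintype.card F * (Fintype.card F + 1)}) :
    ∃ p f e o, OddHyp G p f (Fintype.card F) e o := by
  obtain ⟨p, hp⟩ := CharP.exists F
  obtain ⟨f, hpp, hq⟩ := FiniteField.card F p
  have hp2 : p ≠ 2 := fun h' => hodd (hq ▸ (by subst h'; exact dvd_pow_self 2 f.pos.ne' : 2 ∣ p ^ (f : ℕ)))
  set q := Fintype.card F
  have hmem : ∀ m, (∃ x : G, (C x).index = m) ↔ m ∈ Set.range (fun g : G => (C g).index) :=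
    fun m => Iff.rfl
  obtain ⟨m, hm⟩ : Odd q := hq ▸ (hpp.odd_of_ne_two hp2).pow
  have hs1 : q ^ 2 - 1 = 4 * (m * (m + 1)) := by
    rw [hm, show (2 * m + 1) ^ 2 = 4 * (m * (m + 1)) + 1 by ring, Nat.add_sub_cancel]
  have hp1 : q * (q + 1) = 2 * (q * (m + 1)) := by rw [hm]; ring
  have hm1 : q * (q - 1) = 2 * (q * m) := by
    rw [show q - 1 = 2 * m by omega]; ring
  rw [hs1, hp1, hm1] at hsz
  rcases Nat.even_or_odd m with hev | hod
  · refine ⟨p, f, m, m + 1, hpp, hp2, hq, h7, hev.two_dvd, by omega, by rw [hm]; ring, fun k => ?_⟩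
    obtain ⟨c, hc⟩ := hev
    rw [hmem, hsz, if_pos (show q % 4 = 1 by omega)]
    simp only [Set.mem_insert_iff, Set.mem_singleton_iff,
      show 4 * (m * (m + 1)) / 2 = 2 * (m * (m + 1)) by omega,
      show 2 * (q * (m + 1)) / 2 = q * (m + 1) by omega]
    tauto
  · obtain ⟨c, hc⟩ := hod
    refine ⟨p, f, m + 1, m, hpp, hp2, hq, h7, ⟨c + 1, by omega⟩, by omega, by rw [hm]; ring,
      fun k => ?_⟩
    rw [hmem, hsz, if_neg (show ¬ q % 4 = 1 by omega)]
    simp only [Set.mem_insert_iff, Set.mem_singleton_iff,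
      show 4 * (m * (m + 1)) / 2 = 2 * ((m + 1) * m) by rw [mul_comm (m + 1) m]; omega,
      show 2 * (q * m) / 2 = q * m by omega]

end CfsgLib.PSL2Sizes
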