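import Cfsg.Agent.Lib.PSL2Sizes.Complement

/-!
# A group with the class sizes of `PSL₂(q)` is a product of `PSL₂(q)` and its centre
-/

set_option autoImplicit false
set_option linter.unusedSectionVars false
set_option linter.style.haveILetI false

open Matrix (ProjectiveSpecialLinearGroup)

namespace CfsgLib.PSL2Sizes

variable {G : Type*} [Group G] [Finite G]

local notation "Q" => G ⧸ Subgroup.center G
local notation "π" => QuotientGroup.mk' (Subgroup.center G)

theorem of_sylow_comm {r : ℕ} (S : Sylow r G)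
    (hc : ∀ x ∈ (S : Subgroup G), ∀ y ∈ (S : Subgroup G), x * y = y * x) :
    ∀ x ∈ _root_.commutator (S : Subgroup G), (x : G) ∈ Subgroup.center G → x = 1 := by
  intro x hx _
  rwa [SchurSylow.commutator_eq_bot_of_comm (fun a b => Subtype.ext (hc a a.2 b b.2)),
    Subgroup.mem_bot] at hx

theorem coe_mapSurjective_sylow {r : ℕ} [Fact r.Prime] (S : Sylow r G) :
    ∃ T : Sylow r Q, (S : Subgroup G).map π = (T : Subgroup Q) :=
  ⟨S.mapSurjective (QuotientGroup.mk'_surjective _), (Sylow.coe_mapSurjective _ S).symm⟩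

/-- An element of the quotient carrying the full `r`-part gives abelian Sylow `r`-subgroups. -/
theorem sylow_comm_of_element {r : ℕ} [Fact r.Prime] {g : Q}
    (hg : r ^ (Nat.card Q).factorization r ∣ orderOf g) (S : Sylow r G) :
    ∀ x ∈ (S : Subgroup G), ∀ y ∈ (S : Subgroup G), x * y = y * x := by
  obtain ⟨T, hT⟩ := coe_mapSurjective_sylow S
  refine commutative_of_map_cyclic _ ?_
  rw [hT]
  exact isCyclic_sylow_of_element hg T

namespace OddHyp

variable {p f q e o : ℕ} (h : OddHyp G p f q e o)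
include h

theorem exists_product {F : Type*} [Field F] [Fintype F] (hF : Fintype.card F = q) :
    ∃ N A : Subgroup G, N.Normal ∧ A ≤ Subgroup.center G ∧ N ⊓ A = ⊥ ∧ N ⊔ A = ⊤ ∧
      Nonempty (N ≃* ProjectiveSpecialLinearGroup (Fin 2) F) := by
  obtain ⟨φ⟩ := h.nonempty_equiv hF
  obtain ⟨hqe, hqo, heo, h2q, h2o⟩ := h.coprimes
  obtain ⟨he, ho⟩ := h.bounds
  haveI := Fact.mk h.prime
  have h7 := h.seven_le
  -- elements of orders `e` and `o`
  have hel : ∀ n, n = e ∨ n = o → ∃ g : Q, orderOf g = n := by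
    intro n hn
    obtain ⟨p', hp'⟩ := CharP.exists F
    haveI := hp'
    obtain ⟨f', hp'p, -⟩ := FiniteField.card F p'
    haveI := Fact.mk hp'p
    have hs := Cfsg.Agent.S2475.result (F := F) p' (by rw [hF]; omega)
    rw [hF] at hs
    have hg : Nat.gcd 2 (q - 1) = 2 := by
      refine Nat.gcd_eq_left ?_
      have := Nat.prime_two.coprime_iff_not_dvd.mp h2q
      omega
    rw [hg] at hs
    have h8 : n * 2 = q - 1 ∨ n * 2 = q + 1 := by
      have h5 : (q : ℤ) = e + o := by exact_mod_cast h.sum.symm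
      have h6 : (4 : ℤ) * (e * o) + 1 = q ^ 2 := by exact_mod_cast h.prod
      have h7' : ((e : ℤ) - o - 1) * (e - o + 1) = 0 := by rw [h5] at h6; linarith
      rcases mul_eq_zero.mp h7' with h' | h' <;> rcases hn with rfl | rfl <;> omega
    have hn' : n ∈ Set.range (orderOf : ProjectiveSpecialLinearGroup (Fin 2) F → ℕ) := by
      rw [hs]
      rcases h8 with h' | h'
      · exact Or.inr (Or.inl ⟨1, by omega⟩)
      · exact Or.inr (Or.inr ⟨1, by omega⟩)
    obtain ⟨g, hg'⟩ := hn'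
    exact ⟨φ.symm g, by rw [φ.symm.orderOf_eq, hg']⟩
  refine exists_product_of_equiv (by rw [hF]; omega) φ (center_inf_commutator_eq_bot fun r hr hrQ => ?_)
  haveI := Fact.mk hr
  by_cases hr2 : r = 2
  · subst hr2
    obtain ⟨g₀, hg₀⟩ := hel e (Or.inl rfl)
    exact h.commutator_sylow_two hF φ hg₀
  refine ⟨default, of_sylow_comm _ ?_⟩
  set S : Sylow r G := default
  by_cases hrp : r = p
  · subst hrp
    obtain ⟨T, hT⟩ := coe_mapSurjective_sylow S
    have hTc := (h.toLoc.card_sylow_and_normalizer T).2.2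
    refine commutative_of_full _ S.2 ?_ ?_
    · rw [hT]
      exact fun x hx y hy => congrArg Subtype.val
        (hTc.is_comm.comm (⟨x, hx⟩ : (T : Subgroup Q)) ⟨y, hy⟩)
    · rintro u hu ⟨i, hi⟩
      refine h.centralizer_eq_of_not_dvd h.prime hi ?_
      have h1 := cb_mul_index u
      rw [h.cb_of_p hu (dvd_cb hu hr hi), h.card_eq] at h1
      rw [Nat.eq_of_mul_eq_mul_left h.q_pos
        (show q * (C u).index = q * (2 * (e * o)) by rw [h1]; ring)]
      exact h.prime.coprime_iff_not_dvd.mp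
        (Nat.Coprime.coprime_dvd_left h.p_dvd_q (h2q.symm.mul_right (hqe.mul_right hqo)))
  -- the remaining odd primes
  have hk : r ^ (Nat.card Q).factorization r ∣ 2 * q * e * o := h.card_eq ▸ Nat.ordProj_dvd _ _
  have hrq : ¬ r ∣ q := fun hd => hrp ((Nat.prime_dvd_prime_iff_eq hr h.prime).mp
    (hr.dvd_of_dvd_pow (h.q_eq ▸ hd)))
  have hr2' : ¬ r ∣ 2 := fun hd => hr2 ((Nat.prime_dvd_prime_iff_eq hr Nat.prime_two).mp hd)
  have hc : ∀ m, ¬ r ∣ m → Nat.Coprime (r ^ (Nat.card Q).factorization r) (2 * q * m) := fun m hm =>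
    (((hr.coprime_iff_not_dvd.mpr hr2').mul_right (hr.coprime_iff_not_dvd.mpr hrq)).mul_right
      (hr.coprime_iff_not_dvd.mpr hm)).pow_left _
  rcases h.odd_prime_cases hr hr2 hrp hrQ with hre | hro
  · obtain ⟨g, hg⟩ := hel e (Or.inl rfl)
    refine sylow_comm_of_element (g := g) ?_ S
    rw [hg]
    refine (hc o fun hd => hr.one_lt.ne' (Nat.eq_one_of_dvd_coprimes heo hre hd)).dvd_of_dvd_mul_left ?_
    rwa [show 2 * q * o * e = 2 * q * e * o by ring]
  · obtain ⟨g, hg⟩ := hel o (Or.inr rfl)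
    refine sylow_comm_of_element (g := g) ?_ S
    rw [hg]
    exact (hc e fun hd => hr.one_lt.ne' (Nat.eq_one_of_dvd_coprimes heo hd hro)).dvd_of_dvd_mul_left hk

end OddHyp

namespace EvenHyp

variable {f q : ℕ} (h : EvenHyp G f q)
include h

theorem exists_product {F : Type*} [Field F] [Fintype F] (hF : Fintype.card F = q) :
    ∃ N A : Subgroup G, N.Normal ∧ A ≤ Subgroup.center G ∧ N ⊓ A = ⊥ ∧ N ⊔ A = ⊤ ∧
      Nonempty (N ≃* ProjectiveSpecialLinearGroup (Fin 2) F) := by
  obtain ⟨φ⟩ := h.nonempty_equiv hF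
  obtain ⟨c1, c2, c3⟩ := h.coprimes
  have h4 := h.four_le
  have h2 := h.two_dvd
  refine exists_product_of_equiv (by rw [hF]; omega) φ (center_inf_commutator_eq_bot fun r hr hrQ => ?_)
  haveI := Fact.mk hr
  refine ⟨default, of_sylow_comm _ ?_⟩
  set S : Sylow r G := default
  have hk : r ^ (Nat.card Q).factorization r ∣ q * ((q - 1) * (q + 1)) :=
    h.card_eq ▸ Nat.ordProj_dvd _ _
  by_cases hr2 : r = 2
  · subst hr2
    obtain ⟨T, hT⟩ := coe_mapSurjective_sylow S
    have hodd : Nat.Coprime 2 ((q - 1) * (q + 1)) :=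
      (c1.coprime_dvd_left h2).mul_right (c2.coprime_dvd_left h2)
    have hsq : ∀ x ∈ (T : Subgroup Q), x⁻¹ = x := by
      intro x hx
      refine inv_eq_of_mul_eq_one_right ?_
      rw [← sq]
      refine h.sq_eq_one ((hodd.pow_left ((Nat.card Q).factorization 2)).coprime_dvd_left ?_
        |>.dvd_of_dvd_mul_right (h.card_eq ▸ orderOf_dvd_natCard x))
      rw [← T.card_eq_multiplicity, ← Subgroup.orderOf_mk x hx]
      exact orderOf_dvd_natCard _
    refine commutative_of_full _ S.2 ?_ ?_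
    · rw [hT]
      intro x hx y hy
      calc x * y = (x * y)⁻¹ := (hsq _ (mul_mem hx hy)).symm
        _ = y * x := by rw [mul_inv_rev, hsq x hx, hsq y hy]
    · rintro u hu ⟨i, hi⟩
      refine centralizer_eq_map hr hi ?_
      have h1 : cb u = q := by
        have h0 := dvd_cb hu hr hi
        rcases h.cb_cases hu with h' | h' | h'
        · exact h'
        all_goals omega
      rw [h1, h.card_eq, Nat.factorization_mul (by omega) (Nat.mul_ne_zero (by omega) (by omega)),
        Finsupp.add_apply, Nat.factorization_eq_zero_of_not_dvd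
          (Nat.prime_two.coprime_iff_not_dvd.mp hodd), add_zero]
  -- the odd primes
  have hrq : Nat.Coprime r q := hr.coprime_iff_not_dvd.mpr fun hd => hr2
    ((Nat.prime_dvd_prime_iff_eq hr Nat.prime_two).mp (hr.dvd_of_dvd_pow (h.q_eq ▸ hd)))
  have hk' : r ^ (Nat.card Q).factorization r ∣ (q - 1) * (q + 1) :=
    (hrq.pow_left _).dvd_of_dvd_mul_left hk
  have hr' : r ∣ q - 1 ∨ r ∣ q + 1 := by
    have h1 : r ∣ q * ((q - 1) * (q + 1)) := h.card_eq ▸ hrQ
    exact hr.dvd_mul.mp (hrq.dvd_of_dvd_mul_left h1)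
  have hel : ∀ n, n = q - 1 ∨ n = q + 1 → ∃ g : Q, orderOf g = n := by
    intro n hn
    obtain ⟨p', hp'⟩ := CharP.exists F
    haveI := hp'
    obtain ⟨f', hp'p, -⟩ := FiniteField.card F p'
    haveI := Fact.mk hp'p
    have hs := Cfsg.Agent.S2475.result (F := F) p' (by rw [hF]; omega)
    rw [hF] at hs
    have hg : Nat.gcd 2 (q - 1) = 1 := c1.coprime_dvd_left h2
    rw [hg] at hs
    have hn' : n ∈ Set.range (orderOf : ProjectiveSpecialLinearGroup (Fin 2) F → ℕ) := by
      rw [hs]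
      rcases hn with h' | h'
      · exact Or.inr (Or.inl ⟨1, by omega⟩)
      · exact Or.inr (Or.inr ⟨1, by omega⟩)
    obtain ⟨g, hg'⟩ := hn'
    exact ⟨φ.symm g, by rw [φ.symm.orderOf_eq, hg']⟩
  rcases hr' with h' | h'
  · obtain ⟨g, hg⟩ := hel (q - 1) (Or.inl rfl)
    refine sylow_comm_of_element (g := g) ?_ S
    rw [hg]
    exact ((hr.coprime_iff_not_dvd.mpr fun hd => hr.one_lt.ne'
      (Nat.eq_one_of_dvd_coprimes c3 h' hd)).pow_left _).dvd_of_dvd_mul_right hk'
  · obtain ⟨g, hg⟩ := hel (q + 1) (Or.inr rfl)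
    refine sylow_comm_of_element (g := g) ?_ S
    rw [hg]
    exact ((hr.coprime_iff_not_dvd.mpr fun hd => hr.one_lt.ne'
      (Nat.eq_one_of_dvd_coprimes c3 hd h')).pow_left _).dvd_of_dvd_mul_left hk'

end EvenHyp

end CfsgLib.PSL2Sizes
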